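import Groth.Agent.Misc4.ProjClosed
import Groth.Agent.DerivedCoh.KFlat.LTensorGen
import Groth.Agent.DerivedCoh.KFlat.RpushComp
import Groth.Agent.DerivedCoh.Duality.LocalModel
import Groth.Agent.DerivedCoh.Duality.ModDual
import Groth.Agent.Misc4.PushRestrict
import Groth.Prelude.Def_DualFM

/-!
# The Fourier-Mukai functor of the diagonal
-/

set_option autoImplicit false

universe u

open CategoryTheory CategoryTheory.Limits AlgebraicGeometry HomologicalComplex
open Groth.DerivedCoh.KFlat

namespace Groth.DEquivH6.DiagPhi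

attribute [local instance] HasDerivedCategory.standard

variable {X Y : Scheme.{u}}

local notation "up" => ComplexShape.up ℤ

/-- changing the fixed complex along a quasi-isomorphism -/
noncomputable def ltcxMap {K E : CochainComplex X.Modules ℤ} (s : K ⟶ E) [QuasiIso s]
    [DCoh.HasLTensorCx K] [DCoh.HasLTensorCx E] : DCoh.LTensorCx K ≅ DCoh.LTensorCx E :=
  let c := Functor.whiskerLeft (flatResolution X)
    (Functor.whiskerRight ((DCoh.tensorCx (X := X)).flip.map s) DerivedCategory.Q)
  haveI : ∀ P, IsIso (c.app P) := fun P =>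
    (DerivedCategory.isIso_Q_map_iff_quasiIso _ _).2
      (quasiIso_totR (T X) (flatResolution_isKFlat_flip P) s)
  haveI := NatIso.isIso_of_isIso_app c
  Localization.liftNatIso DerivedCategory.Q (HomologicalComplex.quasiIso X.Modules up)
    (DerivedCategory.Q ⋙ DCoh.LTensorCx K) (DerivedCategory.Q ⋙ DCoh.LTensorCx E) _ _
    (ltcxResIso K ≪≫ asIso c ≪≫ (ltcxResIso E).symm)

/-- `- ⊗^L K` only depends on the class of `K` -/
theorem nonempty_ltcx_congr {K E : CochainComplex X.Modules ℤ} (e : DCoh.toD X K ≅ DCoh.toD X E)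
    [DCoh.HasLTensorCx K] [DCoh.HasLTensorCx E] : Nonempty (DCoh.LTensorCx K ≅ DCoh.LTensorCx E) := by
  obtain ⟨A, s, hs, g, hfac⟩ := DerivedCategory.right_fac e.hom
  have hg : IsIso (DerivedCategory.Q.map g) := by
    have : DerivedCategory.Q.map g = DerivedCategory.Q.map s ≫ e.hom := by rw [hfac]; simp
    rw [this]
    infer_instance
  have := (DerivedCategory.isIso_Q_map_iff_quasiIso _ s).1 hs
  have := (DerivedCategory.isIso_Q_map_iff_quasiIso _ g).1 hg
  have := hasLTensorCx A
  exact ⟨(ltcxMap s).symm ≪≫ ltcxMap g⟩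

section single

variable (N : X.Modules)

/-- inclusion of `P ⊗ N` into the total tensor product with `N` placed in degree zero -/
noncomputable def toTotSingleX (P : CochainComplex X.Modules ℤ) (n : ℤ) :
    ((T X).flip.obj N).obj (P.X n) ⟶ (tot (T X) P ((single X.Modules up 0).obj N)).X n :=
  ((T X).obj (P.X n)).map (singleObjXSelf up 0 N).inv ≫
    ιMapBifunctor P ((single X.Modules up 0).obj N) (T X) up n 0 n (add_zero n)

lemma isIso_toTotSingleX (P : CochainComplex X.Modules ℤ) (n : ℤ) : IsIso (toTotSingleX N P n) := by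
  have k₁ : ∀ p : ℤ, ((T X).obj (P.X p)).map (singleObjXSelf up 0 N).inv ≫
      ((T X).obj (P.X p)).map (singleObjXSelf up 0 N).hom = 𝟙 _ := fun p => by
    rw [← Functor.map_comp, Iso.inv_hom_id, CategoryTheory.Functor.map_id]
  have k₂ : ∀ p : ℤ, ((T X).obj (P.X p)).map (singleObjXSelf up 0 N).hom ≫
      ((T X).obj (P.X p)).map (singleObjXSelf up 0 N).inv = 𝟙 _ := fun p => by
    rw [← Functor.map_comp, Iso.hom_inv_id, CategoryTheory.Functor.map_id]
  refine ⟨mapBifunctorDesc (fun p q h =>
    if hq : q = 0 then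
      ((T X).obj (P.X p)).map (singleObjXIsoOfEq up 0 N q hq).hom ≫
        eqToHom (congrArg (fun i => ((T X).obj (P.X i)).obj N) (show p = n by
          have : p + q = n := h
          omega))
    else 0), ?_, ?_⟩
  · rw [toTotSingleX, Category.assoc, ι_mapBifunctorDesc, dif_pos rfl]
    exact (congrArg (_ ≫ ·) (Category.comp_id _)).trans (k₁ n)
  · refine mapBifunctor.hom_ext fun p q h => ?_
    rw [ι_mapBifunctorDesc_assoc, Category.comp_id]
    by_cases hq : q = 0
    · subst hq
      obtain rfl : p = n := by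
        have : p + 0 = n := h
        omega
      rw [dif_pos rfl, toTotSingleX]
      refine (congrArg (· ≫ _) (Category.comp_id (((T X).obj (P.X p)).map (singleObjXSelf up 0 N).hom))).trans ?_
      exact (Category.assoc _ _ _).symm.trans
        ((congrArg (· ≫ _) (k₂ p)).trans (Category.id_comp _))
    · rw [dif_neg hq, zero_comp]
      exact (((T X).obj (P.X p)).map_isZero (isZero_single_obj_X _ _ _ _ hq)).eq_of_src _ _

lemma toTotSingleX_comm (P : CochainComplex X.Modules ℤ) (n m : ℤ) (hnm : (up).Rel n m) :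
    toTotSingleX N P n ≫ (tot (T X) P ((single X.Modules up 0).obj N)).d n m =
      ((T X).flip.obj N).map (P.d n m) ≫ toTotSingleX N P m := by
  have h2 : mapBifunctor.d₂ P ((single X.Modules up 0).obj N) (T X) up n 0 m = 0 := by
    rw [mapBifunctor.d₂_eq' _ _ _ _ _ (show (up).Rel 0 1 from by simp), single_obj_d,
      Functor.map_zero, zero_comp, smul_zero]
  have h1 : ιMapBifunctor P ((single X.Modules up 0).obj N) (T X) up n 0 n (add_zero n) ≫
      (tot (T X) P ((single X.Modules up 0).obj N)).d n m =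
      ((T X).map (P.d n m)).app (((single X.Modules up 0).obj N).X 0) ≫
        ιMapBifunctor P ((single X.Modules up 0).obj N) (T X) up m 0 m (add_zero m) := by
    change _ ≫ (mapBifunctor.D₁ P ((single X.Modules up 0).obj N) (T X) up n m +
      mapBifunctor.D₂ P ((single X.Modules up 0).obj N) (T X) up n m) = _
    rw [Preadditive.comp_add, mapBifunctor.ι_D₁, mapBifunctor.ι_D₂, h2, add_zero,
      mapBifunctor.d₁_eq _ _ _ _ hnm 0 m (show m + 0 = m from add_zero m)]
    rw [show ComplexShape.ε₁ up up up (n, (0 : ℤ)) = 1 from rfl, one_smul]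
  refine (Category.assoc _ _ _).trans ((congrArg (_ ≫ ·) h1).trans ?_)
  exact ((T X).map (P.d n m)).naturality_assoc (singleObjXSelf up 0 N).inv _

/-- the comparison as a map of complexes -/
noncomputable def toTotSingle (P : CochainComplex X.Modules ℤ) :
    (((T X).flip.obj N).mapHomologicalComplex up).obj P ⟶ tot (T X) P ((single X.Modules up 0).obj N) where
  f n := toTotSingleX N P n
  comm' n m hnm := toTotSingleX_comm N P n m hnm

/-- tensoring with a module in degree zero, naturally -/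
noncomputable def totSingleNatIso :
    ((T X).flip.obj N).mapHomologicalComplex up ≅ totL (T X) ((single X.Modules up 0).obj N) :=
  have h : ∀ P, IsIso (toTotSingle N P) := fun P =>
    haveI : ∀ n, IsIso ((toTotSingle N P).f n) := isIso_toTotSingleX N P
    Hom.isIso_of_components _
  NatIso.ofComponents (fun P => @asIso _ _ _ _ (toTotSingle N P) (h P)) fun {P P'} g => by
    refine HomologicalComplex.hom_ext _ _ fun n => ?_
    show ((T X).flip.obj N).map (g.f n) ≫ toTotSingleX N P' n =
      toTotSingleX N P n ≫ ((totL (T X) ((single X.Modules up 0).obj N)).map g).f n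
    rw [toTotSingleX, toTotSingleX, Category.assoc, ι_totL_map]
    exact (((T X).map (g.f n)).naturality_assoc _ _).symm

end single

/-- tensoring with the direct image of the structure sheaf of a closed subscheme -/
noncomputable def tensorPushUnit (d : X ⟶ Y) [IsClosedImmersion d] :
    (T Y).flip.obj ((Scheme.Modules.pushforward d).obj (Coh.structureModule X)) ≅
      Scheme.Modules.pullback d ⋙ Scheme.Modules.pushforward d :=
  let N := (Scheme.Modules.pushforward d).obj (Coh.structureModule X)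
  let ε := asIso (Scheme.Modules.pullbackPushforwardAdjunction d).counit
  Groth.Misc7.ClosedImm.unitIso d ((T Y).flip.obj N)
      (fun L => Groth.Misc7.ClosedImm.killed_tensor d (Coh.structureModule X) L) ≪≫
    Functor.isoWhiskerRight (NatIso.ofComponents
      (fun L => pullTensor d L N ≪≫ ((T X).obj ((Scheme.Modules.pullback d).obj L)).mapIso
          (ε.app (Coh.structureModule X)) ≪≫ Groth.DerivedCoh.Duality.rho _)
      fun {L L'} ψ => by
        show (Scheme.Modules.pullback d).map (((T Y).map ψ).app N) ≫ (pullTensor d L' N).hom ≫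
            ((T X).obj _).map _ ≫ (Groth.DerivedCoh.Duality.rho _).hom =
          ((pullTensor d L N).hom ≫ ((T X).obj _).map _ ≫ (Groth.DerivedCoh.Duality.rho _).hom) ≫
            (Scheme.Modules.pullback d).map ψ
        simp only [Category.assoc]
        rw [← Category.assoc, pullTensor_left, Category.assoc]
        refine congrArg (_ ≫ ·) ?_
        rw [← Groth.DerivedCoh.Duality.rho_natural, ← Category.assoc, ← Category.assoc]
        exact congrArg (· ≫ _) (((T X).map _).naturality _).symm)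
      (Scheme.Modules.pushforward d)

/-- `- ⊗^L d_*O = d_* Ld^*` for a closed immersion -/
theorem nonempty_ltcx_push (d : X ⟶ Y) [IsClosedImmersion d] [DCoh.HasLpull d] [DCoh.HasRpush d]
    [DCoh.HasLTensorCx ((single Y.Modules up 0).obj
      ((Scheme.Modules.pushforward d).obj (Coh.structureModule X)))] :
    Nonempty (DCoh.LTensorCx ((single Y.Modules up 0).obj
        ((Scheme.Modules.pushforward d).obj (Coh.structureModule X))) ≅
      DCoh.Lpull d ⋙ DCoh.Rpush d) := by
  haveI := Groth.Misc6.DevissageSupp.preservesFiniteLimits_push d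
  haveI := Groth.Misc6.DevissageSupp.preservesFiniteColimits_push d
  let N := (Scheme.Modules.pushforward d).obj (Coh.structureModule X)
  -- tensor on complexes
  let e₁ : totL (T Y) ((single Y.Modules up 0).obj N) ≅ pullCx d ⋙ pushCx d :=
    (totSingleNatIso N).symm ≪≫ NatIso.mapHomologicalComplex (tensorPushUnit d) up
  -- the direct image on complexes
  let a := Functor.whiskerRight (kresAug X) (pushCx d ⋙ L₀ Y)
  haveI : ∀ C, IsIso (a.app C) := fun C => by
    haveI : QuasiIso ((pushCx d).map ((kresAug X).app C)) := inferInstance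
    exact isIso_L₀_map ((pushCx d).map ((kresAug X).app C))
  haveI := NatIso.isIso_of_isIso_app a
  let e₂ : pushCx d ⋙ L₀ Y ≅ L₀ X ⋙ DCoh.Rpush d := asIso a ≪≫ (RpushResIso d).symm
  let e : L₀ Y ⋙ DCoh.LTensorCx ((single Y.Modules up 0).obj N) ≅
      L₀ Y ⋙ DCoh.Lpull d ⋙ DCoh.Rpush d :=
    Functor.isoWhiskerRight (L₀Q Y) _ ≪≫ ltcxResIso _ ≪≫
    Functor.isoWhiskerLeft (flatResolution Y)
      (Functor.isoWhiskerRight e₁ DerivedCategory.Q ≪≫ Functor.associator _ _ _ ≪≫
        Functor.isoWhiskerLeft (pullCx d) (Functor.isoWhiskerLeft (pushCx d) (L₀Q Y).symm ≪≫ e₂)) ≪≫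
    (Functor.isoWhiskerRight (LpullResIso d) (DCoh.Rpush d)).symm
  exact ⟨Localization.liftNatIso (L₀ Y) (HomologicalComplex.quasiIso Y.Modules up)
    (L₀ Y ⋙ DCoh.LTensorCx ((single Y.Modules up 0).obj N))
    (L₀ Y ⋙ DCoh.Lpull d ⋙ DCoh.Rpush d) _ _ e⟩

/-- `L(1)^* = 1` -/
theorem nonempty_Lpull_id (f : X ⟶ X) (hf : f = 𝟙 X) [DCoh.HasLpull f] :
    Nonempty (DCoh.Lpull f ≅ 𝟭 (DCoh.D X)) := by
  subst hf
  let a := Functor.whiskerRight (flatResolutionAug X) (L₀ X)
  haveI : ∀ C, IsIso (a.app C) := fun C => by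
    haveI := flatResolution_quasiIso C
    exact isIso_L₀_map ((flatResolutionAug X).app C)
  haveI := NatIso.isIso_of_isIso_app a
  let e : L₀ X ⋙ DCoh.Lpull (𝟙 X) ≅ L₀ X ⋙ 𝟭 (DCoh.D X) :=
    LpullResIso (𝟙 X) ≪≫ Functor.isoWhiskerLeft (flatResolution X)
      (Functor.isoWhiskerRight (NatIso.mapHomologicalComplex (Scheme.Modules.pullbackId X) up ≪≫
        Functor.mapHomologicalComplexIdIso X.Modules up) (L₀ X)) ≪≫ asIso a
  exact ⟨Localization.liftNatIso (L₀ X) (HomologicalComplex.quasiIso X.Modules up)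
    (L₀ X ⋙ DCoh.Lpull (𝟙 X)) (L₀ X ⋙ 𝟭 (DCoh.D X)) _ _ e⟩

/-- `R(1)_* = 1` -/
theorem nonempty_Rpush_id (f : X ⟶ X) (hf : f = 𝟙 X) [DCoh.HasRpush f] :
    Nonempty (DCoh.Rpush f ≅ 𝟭 (DCoh.D X)) := by
  subst hf
  let a := Functor.whiskerRight (kresAug X) (L₀ X)
  haveI : ∀ C, IsIso (a.app C) := fun C => isIso_L₀_map ((kresAug X).app C)
  haveI := NatIso.isIso_of_isIso_app a
  let e : L₀ X ⋙ DCoh.Rpush (𝟙 X) ≅ L₀ X ⋙ 𝟭 (DCoh.D X) :=
    RpushResIso (𝟙 X) ≪≫ Functor.isoWhiskerLeft (kres X)
      (Functor.isoWhiskerRight (NatIso.mapHomologicalComplex (Scheme.Modules.pushforwardId X) up ≪≫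
        Functor.mapHomologicalComplexIdIso X.Modules up) (L₀ X)) ≪≫ (asIso a).symm
  exact ⟨Localization.liftNatIso (L₀ X) (HomologicalComplex.quasiIso X.Modules up)
    (L₀ X ⋙ DCoh.Rpush (𝟙 X)) (L₀ X ⋙ 𝟭 (DCoh.D X)) _ _ e⟩

/-- the diagonal kernel gives the identity -/
theorem nonempty_phi_diag {S : Scheme.{u}} (a : X ⟶ S) [IsSeparated a]
    (K : CochainComplex (pullback a a).Modules ℤ) (hK : Nonempty (DCoh.toD _ K ≅ FMK.diagO a))
    [DCoh.HasLpull (pullback.fst a a)] [DCoh.HasLTensorCx K] [DCoh.HasRpush (pullback.snd a a)] :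
    Nonempty (FMK.phi a a K ≅ 𝟭 (DCoh.D X)) := by
  obtain ⟨eK⟩ := hK
  let d := pullback.diagonal a
  let p := pullback.fst a a
  let q := pullback.snd a a
  let M := (single (pullback a a).Modules up 0).obj
    ((Scheme.Modules.pushforward d).obj (Coh.structureModule X))
  haveI := hasLTensorCx M
  haveI : ∀ {U V : Scheme.{u}} (h : U ⟶ V), DCoh.HasLpull h := fun h => hasLpull h
  haveI : ∀ {U V : Scheme.{u}} (h : U ⟶ V), DCoh.HasRpush h := fun h =>
    Groth.Misc4.PushRestrict.hasRightDerived (Scheme.Modules.pushforward h)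
  obtain ⟨c⟩ := nonempty_ltcx_congr (K := K) (E := M)
    (eK ≪≫ (DerivedCategory.singleFunctorIsoCompQ (pullback a a).Modules 0).app _)
  obtain ⟨t⟩ := nonempty_ltcx_push d
  obtain ⟨lp⟩ := Lpull_comp_iso d p
  obtain ⟨rp⟩ := Rpush_comp_iso d q
  obtain ⟨l1⟩ := nonempty_Lpull_id (d ≫ p) (pullback.diagonal_fst a)
  obtain ⟨r1⟩ := nonempty_Rpush_id (d ≫ q) (pullback.diagonal_snd a)
  exact ⟨Functor.isoWhiskerLeft (DCoh.Lpull p) (Functor.isoWhiskerRight (c ≪≫ t) (DCoh.Rpush q) ≪≫
      Functor.associator _ _ _) ≪≫ (Functor.associator _ _ _).symm ≪≫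
    Functor.isoWhiskerRight (lp ≪≫ l1) _ ≪≫ Functor.leftUnitor _ ≪≫ rp ≪≫ r1⟩

end Groth.DEquivH6.DiagPhi
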