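import Groth.Agent.DerivedCoh.BrownCompact
import Groth.Agent.DerivedCoh.Compact
import Mathlib.LinearAlgebra.Dimension.Finrank
import Mathlib.LinearAlgebra.FiniteDimensional.Basic
import Mathlib.Algebra.Category.ModuleCat.Basic
import Mathlib.CategoryTheory.Linear.Basic
import Mathlib.Order.Zorn

/-!
# Extension of partial natural transformations into finite dimensional cohomological functors

For a cohomological, pointwise finite dimensional functor `H` on compact objects, natural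
transformations from the restricted Yoneda functors to `H` send distinguished triangles to exact
sequences.
-/

set_option autoImplicit false

universe w v u

open CategoryTheory CategoryTheory.Limits CategoryTheory.Pretriangulated Opposite

namespace Groth.DEquivH6.Findim

variable {k : Type w} [Field k] {D : Type u} [Category.{v} D] [Preadditive D] [HasCoproducts.{v} D]

variable (D) in
/-- the category of compact objects -/
abbrev Cpt := ObjectProperty.FullSubcategory (fun K : D => CohDer.IsCompactObject K)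

variable (H : (ObjectProperty.FullSubcategory (fun K : D => CohDer.IsCompactObject K))ᵒᵖ ⥤
  ModuleCat.{v} k)

/-- restriction of classes along a map of compact objects -/
noncomputable def pb {A B : Cpt D} (f : A.obj ⟶ B.obj) : H.obj (op B) →ₗ[k] H.obj (op A) :=
  (H.map (ObjectProperty.homMk f).op).hom

lemma pb_id (A : Cpt D) (a : H.obj (op A)) : pb H (𝟙 A.obj) a = a := by
  have : (ObjectProperty.homMk (𝟙 A.obj) : A ⟶ A).op = 𝟙 (op A) := rfl
  simp [pb, this]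

lemma pb_comp {A B C : Cpt D} (f : A.obj ⟶ B.obj) (g : B.obj ⟶ C.obj) (c : H.obj (op C)) :
    pb H (f ≫ g) c = pb H f (pb H g c) := by
  have : (ObjectProperty.homMk (f ≫ g) : A ⟶ C).op =
      (ObjectProperty.homMk g : B ⟶ C).op ≫ (ObjectProperty.homMk f : A ⟶ B).op := rfl
  simp [pb, this]

variable [H.Additive]

lemma pb_add {A B : Cpt D} (f g : A.obj ⟶ B.obj) (b : H.obj (op B)) :
    pb H (f + g) b = pb H f b + pb H g b := by
  have : (ObjectProperty.homMk (f + g) : A ⟶ B).op =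
      (ObjectProperty.homMk f : A ⟶ B).op + (ObjectProperty.homMk g : A ⟶ B).op := rfl
  simp [pb, this, H.map_add]

lemma pb_zero {A B : Cpt D} (b : H.obj (op B)) : pb H (0 : A.obj ⟶ B.obj) b = 0 := by
  simpa using pb_add H (0 : A.obj ⟶ B.obj) 0 b

variable {κ : Type v} (R : κ → Cpt D)

/-- natural families of additive maps on the representatives: the functor to be represented -/
noncomputable def nat (X : D) : AddSubgroup (∀ j, ((R j).obj ⟶ X) →+ H.obj (op (R j))) where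
  carrier := {η | ∀ (i j : κ) (g : (R i).obj ⟶ (R j).obj) (x : (R j).obj ⟶ X),
    η i (g ≫ x) = pb H g (η j x)}
  zero_mem' i j g x := by simp
  add_mem' {a b} ha hb i j g x := by simp [ha i j g x, hb i j g x]
  neg_mem' {a} ha i j g x := by simp [ha i j g x]

/-- a family of partial additive maps with values in `H` -/
structure IsGood {Z : D} (Γ : ∀ j, AddSubgroup (((R j).obj ⟶ Z) × H.obj (op (R j)))) : Prop where
  sv : ∀ j a, (0, a) ∈ Γ j → a = 0
  natural : ∀ (i j : κ) (g : (R i).obj ⟶ (R j).obj) x a, (x, a) ∈ Γ j → (g ≫ x, pb H g a) ∈ Γ i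

variable {H R}

lemma IsGood.unique {Z : D} {Γ : ∀ j, AddSubgroup (((R j).obj ⟶ Z) × H.obj (op (R j)))}
    (h : IsGood H R Γ) {j : κ} {x : (R j).obj ⟶ Z} {a b : H.obj (op (R j))} (ha : (x, a) ∈ Γ j)
    (hb : (x, b) ∈ Γ j) : a = b := by
  rw [← sub_eq_zero]
  exact h.sv j _ (by simpa using (Γ j).sub_mem ha hb)

variable [HasZeroObject D] [HasShift D ℤ] [∀ n : ℤ, (shiftFunctor D n).Additive] [Pretriangulated D]
variable (hR : ∀ C : D, CohDer.IsCompactObject C → ∃ j, Nonempty (C ≅ (R j).obj))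
  (hfin : ∀ X, Module.Finite k (H.obj X))
  (hcoh : ∀ T ∈ distTriang D, ∀ (h₁ : CohDer.IsCompactObject T.obj₁)
      (h₂ : CohDer.IsCompactObject T.obj₂) (h₃ : CohDer.IsCompactObject T.obj₃)
      (y : H.obj (op ⟨T.obj₂, h₂⟩)),
      H.map (ObjectProperty.homMk T.mor₁ : (⟨T.obj₁, h₁⟩ : ObjectProperty.FullSubcategory
          (fun K : D => CohDer.IsCompactObject K)) ⟶ ⟨T.obj₂, h₂⟩).op y = 0 →
        ∃ z : H.obj (op ⟨T.obj₃, h₃⟩),
          H.map (ObjectProperty.homMk T.mor₂ : (⟨T.obj₂, h₂⟩ : ObjectProperty.FullSubcategory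
            (fun K : D => CohDer.IsCompactObject K)) ⟶ ⟨T.obj₃, h₃⟩).op z = y)

include hR hcoh in
/-- one linear condition can be solved -/
lemma IsGood.exists_solution {Z : D} {Γ : ∀ j, AddSubgroup (((R j).obj ⟶ Z) × H.obj (op (R j)))}
    (h : IsGood H R Γ) {i j : κ} (g : (R i).obj ⟶ (R j).obj) (z : (R j).obj ⟶ Z)
    (a : H.obj (op (R i))) (ha : (g ≫ z, a) ∈ Γ i) : ∃ b, pb H g b = a := by
  obtain ⟨K, ψ, δ, hT⟩ := distinguished_cocone_triangle₁ g
  have hK : CohDer.IsCompactObject K :=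
    DerivedCoh.Compact.of_triangle₂ _ (inv_rot_of_distTriang _ hT)
      (DerivedCoh.Compact.shift (R j).property (-1)) (R i).property
  obtain ⟨l, ⟨e⟩⟩ := hR K hK
  have h0 : pb H (A := ⟨K, hK⟩) ψ a = 0 := by
    have h1 := h.natural l i (e.inv ≫ ψ) _ _ ha
    have hz : ψ ≫ g = 0 := comp_distTriang_mor_zero₁₂ _ hT
    rw [Category.assoc, reassoc_of% hz, zero_comp, comp_zero] at h1
    have h2 : pb H (A := ⟨K, hK⟩) e.hom (pb H (A := R l) (e.inv ≫ ψ) a) = 0 := by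
      rw [h.sv l _ h1, map_zero]
    rwa [← pb_comp, Iso.hom_inv_id_assoc] at h2
  exact hcoh _ hT hK (R i).property (R j).property a h0

include hR in
/-- two linear conditions combine into one -/
lemma IsGood.exists_combine {Z : D} {Γ : ∀ j, AddSubgroup (((R j).obj ⟶ Z) × H.obj (op (R j)))}
    (h : IsGood H R Γ) {j : κ} (z : (R j).obj ⟶ Z) {i₀ i₁ : κ} (g₀ : (R i₀).obj ⟶ (R j).obj)
    (g₁ : (R i₁).obj ⟶ (R j).obj) {a₀ : H.obj (op (R i₀))} {a₁ : H.obj (op (R i₁))}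
    (h₀ : (g₀ ≫ z, a₀) ∈ Γ i₀) (h₁ : (g₁ ≫ z, a₁) ∈ Γ i₁) :
    ∃ (i : κ) (g : (R i).obj ⟶ (R j).obj) (a : H.obj (op (R i))), (g ≫ z, a) ∈ Γ i ∧
      (∀ b, pb H g b = 0 → pb H g₀ b = 0 ∧ pb H g₁ b = 0) ∧
      (∀ b, pb H g b = a → pb H g₀ b = a₀ ∧ pb H g₁ b = a₁) := by
  haveI := HasBinaryBiproducts.of_hasBinaryProducts (C := D)
  let A := (R i₀).obj
  let B := (R i₁).obj
  have hc : CohDer.IsCompactObject (A ⊞ B) :=
    DerivedCoh.Compact.of_triangle₂ _ (binaryBiproductTriangle_distinguished A B)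
      (R i₀).property (R i₁).property
  obtain ⟨i, ⟨e⟩⟩ := hR _ hc
  refine ⟨i, (e.inv ≫ biprod.fst) ≫ g₀ + (e.inv ≫ biprod.snd) ≫ g₁,
    pb H (e.inv ≫ biprod.fst) a₀ + pb H (e.inv ≫ biprod.snd) a₁, ?_, ?_⟩
  · simpa only [Preadditive.add_comp, Category.assoc, Prod.mk_add_mk] using (Γ i).add_mem
      (h.natural i i₀ (e.inv ≫ biprod.fst) _ _ h₀) (h.natural i i₁ (e.inv ≫ biprod.snd) _ _ h₁)
  have k₀ : (biprod.inl ≫ e.hom) ≫ ((e.inv ≫ biprod.fst) ≫ g₀ + (e.inv ≫ biprod.snd) ≫ g₁) = g₀ := by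
    simp [A, B]
  have k₁ : (biprod.inr ≫ e.hom) ≫ ((e.inv ≫ biprod.fst) ≫ g₀ + (e.inv ≫ biprod.snd) ≫ g₁) = g₁ := by
    simp [A, B]
  refine ⟨fun b hb => ⟨?_, ?_⟩, fun b hb => ⟨?_, ?_⟩⟩
  · rw [← k₀, pb_comp, hb, map_zero]
  · rw [← k₁, pb_comp, hb, map_zero]
  · rw [← k₀, pb_comp, hb, map_add, ← pb_comp, ← pb_comp]
    have e₀ : (biprod.inl ≫ e.hom) ≫ e.inv ≫ biprod.fst = 𝟙 A := by simp [A, B]
    have e₁ : (biprod.inl ≫ e.hom) ≫ e.inv ≫ biprod.snd = (0 : A ⟶ B) := by simp [A, B]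
    rw [e₀, e₁, pb_zero, pb_id, add_zero]
  · rw [← k₁, pb_comp, hb, map_add, ← pb_comp, ← pb_comp]
    have e₀ : (biprod.inr ≫ e.hom) ≫ e.inv ≫ biprod.fst = (0 : B ⟶ A) := by simp [A, B]
    have e₁ : (biprod.inr ≫ e.hom) ≫ e.inv ≫ biprod.snd = 𝟙 B := by simp [A, B]
    rw [e₀, e₁, pb_zero, pb_id, zero_add]

include hR hfin hcoh in
/-- all linear conditions can be solved simultaneously -/
lemma IsGood.exists_value {Z : D} {Γ : ∀ j, AddSubgroup (((R j).obj ⟶ Z) × H.obj (op (R j)))}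
    (h : IsGood H R Γ) {j : κ} (z : (R j).obj ⟶ Z) :
    ∃ b : H.obj (op (R j)), ∀ (i : κ) (g : (R i).obj ⟶ (R j).obj) (a : H.obj (op (R i))),
      (g ≫ z, a) ∈ Γ i → pb H g b = a := by
  classical
  let P : ℕ → Prop := fun n => ∃ (i : κ) (g : (R i).obj ⟶ (R j).obj) (a : H.obj (op (R i))),
    (g ≫ z, a) ∈ Γ i ∧ Module.finrank k (LinearMap.ker (pb H g)) = n
  have hP : ∃ n, P n := ⟨_, j, 0, 0, by rw [zero_comp]; exact (Γ j).zero_mem, rfl⟩
  obtain ⟨i₀, g₀, a₀, h₀, e₀⟩ := Nat.find_spec hP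
  obtain ⟨b, hb⟩ := h.exists_solution hR hcoh g₀ z a₀ h₀
  refine ⟨b, fun i₁ g₁ a₁ h₁ => ?_⟩
  obtain ⟨i, g, a, hg, hker, hval⟩ := h.exists_combine hR z g₀ g₁ h₀ h₁
  obtain ⟨c, hc⟩ := h.exists_solution hR hcoh g z a hg
  obtain ⟨hc₀, hc₁⟩ := hval c hc
  have := hfin (op (R j))
  have hle : LinearMap.ker (pb H g) ≤ LinearMap.ker (pb H g₀) := fun x hx => (hker x hx).1
  have heq : LinearMap.ker (pb H g) = LinearMap.ker (pb H g₀) :=
    Submodule.eq_of_le_of_finrank_le hle (by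
      rw [e₀]; exact Nat.find_le ⟨i, g, a, hg, rfl⟩)
  have hd : b - c ∈ LinearMap.ker (pb H g) := by
    rw [heq, LinearMap.mem_ker, map_sub, hb, hc₀, sub_self]
  have hd₁ : pb H g₁ (b - c) = 0 := (hker _ hd).2
  rw [map_sub, hc₁, sub_eq_zero] at hd₁
  exact hd₁

variable (H R)

/-- adjoin a value at `z` -/
noncomputable def extend {Z : D} (Γ : ∀ j, AddSubgroup (((R j).obj ⟶ Z) × H.obj (op (R j))))
    {j : κ} (z : (R j).obj ⟶ Z) (b : H.obj (op (R j))) (i : κ) :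
    AddSubgroup (((R i).obj ⟶ Z) × H.obj (op (R i))) :=
  Γ i ⊔ (AddMonoidHom.mk' (fun g : (R i).obj ⟶ (R j).obj => (g ≫ z, pb H g b))
    fun g g' => by simp [Preadditive.add_comp, pb_add]).range

variable {H R}

include hR hfin hcoh in
/-- a partial natural transformation extends to a total one -/
lemma IsGood.exists_total {Z : D} {Γ : ∀ j, AddSubgroup (((R j).obj ⟶ Z) × H.obj (op (R j)))}
    (h : IsGood H R Γ) : ∃ ζ : nat H R Z, ∀ j x a, (x, a) ∈ Γ j → ζ.1 j x = a := by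
  classical
  obtain ⟨M, hM, hmax⟩ := zorn_le_nonempty₀ {Γ' | IsGood H R Γ'} (fun c hc hchain Γ₁ hΓ₁ => by
    have : Nonempty c := ⟨⟨Γ₁, hΓ₁⟩⟩
    let U : ∀ j, AddSubgroup (((R j).obj ⟶ Z) × H.obj (op (R j))) := fun j => ⨆ Γ' : c, Γ'.1 j
    have hmem : ∀ j p, p ∈ U j ↔ ∃ Γ' : c, p ∈ Γ'.1 j := fun j p => by
      refine AddSubgroup.mem_iSup_of_directed ?_
      rintro ⟨x, hx⟩ ⟨y, hy⟩
      rcases hchain.total hx hy with hxy | hxy
      · exact ⟨⟨y, hy⟩, hxy j, le_refl _⟩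
      · exact ⟨⟨x, hx⟩, le_refl _, hxy j⟩
    refine ⟨U, ⟨fun j a ha => ?_, fun i j g x a ha => ?_⟩, fun Γ' hΓ' j =>
      le_iSup (fun Γ' : c => Γ'.1 j) ⟨Γ', hΓ'⟩⟩
    · obtain ⟨⟨Γ', hΓ'⟩, ha'⟩ := (hmem _ _).1 ha
      exact (hc hΓ').sv j a ha'
    · obtain ⟨⟨Γ', hΓ'⟩, ha'⟩ := (hmem _ _).1 ha
      exact (hmem _ _).2 ⟨⟨Γ', hΓ'⟩, (hc hΓ').natural i j g x a ha'⟩) Γ h
  have tot : ∀ j (z : (R j).obj ⟶ Z), ∃ b, (z, b) ∈ M j := by
    intro j z
    have hMgood : IsGood H R M := hmax.1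
    obtain ⟨b, hb⟩ := hMgood.exists_value hR hfin hcoh z
    have hgood : IsGood H R (extend H R M z b) := by
      constructor
      · intro i a ha
        obtain ⟨⟨x, a'⟩, hp, _, ⟨g, rfl⟩, hsum⟩ := AddSubgroup.mem_sup.1 ha
        simp only [AddMonoidHom.mk'_apply, Prod.mk_add_mk, Prod.mk.injEq] at hsum
        obtain ⟨hx, rfl⟩ := hsum
        rw [← eq_neg_iff_add_eq_zero] at hx
        subst hx
        have := hb i g (-a') (by simpa using (M i).neg_mem hp)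
        rw [this, add_neg_cancel]
      · intro i i' g x a ha
        obtain ⟨⟨x', a'⟩, hp, _, ⟨g', rfl⟩, hsum⟩ := AddSubgroup.mem_sup.1 ha
        simp only [AddMonoidHom.mk'_apply, Prod.mk_add_mk, Prod.mk.injEq] at hsum
        obtain ⟨rfl, rfl⟩ := hsum
        refine AddSubgroup.mem_sup.2 ⟨_, hMgood.natural i i' g x' a' hp, _, ⟨g ≫ g', rfl⟩, ?_⟩
        simp [Preadditive.comp_add, pb_comp, Category.assoc]
    have hle : extend H R M z b ≤ M := hmax.2 hgood fun i => le_sup_left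
    exact ⟨b, hle j (AddSubgroup.mem_sup_right ⟨𝟙 _, by simp [pb_id]⟩)⟩
  have hMgood : IsGood H R M := hmax.1
  choose ζ hζ using tot
  refine ⟨⟨fun j => AddMonoidHom.mk' (ζ j) fun x y => hMgood.unique (hζ j (x + y))
    ((M j).add_mem (hζ j x) (hζ j y)), fun i j g x => ?_⟩, fun j x a ha => ?_⟩
  · exact hMgood.unique (hζ i (g ≫ x)) (hMgood.natural i j g x _ (hζ j x))
  · exact hMgood.unique (hζ j x) (hM j ha)

end Groth.DEquivH6.Findim
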