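import Groth.Agent.DEquivH6.FindimExtend
import Mathlib.CategoryTheory.Linear.Yoneda
import Mathlib.CategoryTheory.Limits.Preserves.Shapes.Products

/-!
# Representability of finite dimensional cohomological functors on compact objects
-/

set_option autoImplicit false

universe w v u

open CategoryTheory CategoryTheory.Limits CategoryTheory.Pretriangulated Opposite
open CategoryTheory.Pretriangulated.Opposite

namespace Groth.DEquivH6.Findim

variable {k : Type w} [Field k] {D : Type u} [Category.{v} D] [Preadditive D] [HasCoproducts.{v} D]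

variable (H : (ObjectProperty.FullSubcategory (fun K : D => CohDer.IsCompactObject K))ᵒᵖ ⥤
  ModuleCat.{v} k) [H.Additive] {κ : Type v} (R : κ → Cpt D)

/-- precomposition of natural families -/
noncomputable def natMap {X X' : D} (f : X' ⟶ X) : nat H R X →+ nat H R X' :=
  AddMonoidHom.mk' (fun η => ⟨fun j => (η.1 j).comp (Preadditive.rightComp (R j).obj f),
    fun i j g x => by
      show η.1 i ((g ≫ x) ≫ f) = pb H g (η.1 j (x ≫ f))
      rw [Category.assoc]; exact η.2 i j g (x ≫ f)⟩) fun _ _ => rfl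

lemma natMap_apply {X X' : D} (f : X' ⟶ X) (η : nat H R X) (j : κ) (x : (R j).obj ⟶ X') :
    (natMap H R f η).1 j x = η.1 j (x ≫ f) := rfl

lemma nat_ext {X : D} {η η' : nat H R X} (h : ∀ j x, η.1 j x = η'.1 j x) : η = η' :=
  Subtype.ext (funext fun j => AddMonoidHom.ext (h j))

/-- the functor of natural families -/
noncomputable def natFunctor : Dᵒᵖ ⥤ AddCommGrpCat.{v} where
  obj X := AddCommGrpCat.of (nat H R X.unop)
  map f := AddCommGrpCat.ofHom (natMap H R f.unop)
  map_id X := by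
    refine AddCommGrpCat.ext fun η => nat_ext H R fun j x => ?_
    show η.1 j (x ≫ 𝟙 _) = η.1 j x
    rw [Category.comp_id]
  map_comp f g := by
    refine AddCommGrpCat.ext fun η => nat_ext H R fun j x => ?_
    show η.1 j (x ≫ g.unop ≫ f.unop) = η.1 j ((x ≫ g.unop) ≫ f.unop)
    rw [Category.assoc]

instance : (natFunctor H R).Additive where
  map_add {X Y f g} := by
    refine AddCommGrpCat.ext fun η => nat_ext H R fun j x => ?_
    show η.1 j (x ≫ (f.unop + g.unop)) = η.1 j (x ≫ f.unop) + η.1 j (x ≫ g.unop)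
    rw [Preadditive.comp_add, map_add]

variable {H R}

lemma natFunctor_preserves (J : Type v) : PreservesLimitsOfShape (Discrete J) (natFunctor H R) := by
  classical
  suffices ∀ f : J → Dᵒᵖ, PreservesLimit (Discrete.functor f) (natFunctor H R) from
    preservesLimitsOfShape_of_discrete _
  intro f
  let X : J → D := fun i => (f i).unop
  let c : Fan f := (Cofan.mk (∐ X) (Limits.Sigma.ι X)).op
  refine preservesLimit_of_preserves_limit_cone
    (Cofan.IsColimit.op (coproductIsCoproduct X) : IsLimit c) ?_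
  refine isLimitOfReflects (forget AddCommGrpCat.{v}) ?_
  refine ((Types.isLimit_iff _).2 fun s hs => ?_).some
  let E : ∀ j : κ, DirectSum J (fun i => (R j).obj ⟶ X i) ≃+ ((R j).obj ⟶ ∐ X) := fun j =>
    AddEquiv.ofBijective _ ((R j).property J X)
  have hof : ∀ (j : κ) (i : J) (x : (R j).obj ⟶ X i),
      E j (DirectSum.of _ i x) = x ≫ Limits.Sigma.ι X i := fun j i x => by
    simp [E, CohDer.homSumToHomCoprod, DirectSum.toAddMonoid_of, Preadditive.rightComp]
  let s' : ∀ i, nat H R (X i) := fun i => s ⟨i⟩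
  let φ : ∀ j, ((R j).obj ⟶ ∐ X) →+ H.obj (op (R j)) := fun j =>
    (DirectSum.toAddMonoid fun i => (s' i).1 j).comp (E j).symm.toAddMonoidHom
  have hφ : ∀ j i (x : (R j).obj ⟶ X i), φ j (x ≫ Limits.Sigma.ι X i) = (s' i).1 j x :=
    fun j i x => by
    simp only [φ, AddMonoidHom.comp_apply, ← hof]
    simp
  have hnat : φ ∈ nat H R (∐ X) := fun i j g x => by
    obtain ⟨y, rfl⟩ := (E j).surjective x
    induction y using DirectSum.induction_on with
    | zero => simp
    | of l z => rw [hof, ← Category.assoc, hφ, hφ]; exact (s' l).2 i j g z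
    | add a b ha hb => simp only [map_add, Preadditive.comp_add, ha, hb]
  refine ⟨(⟨φ, hnat⟩ : nat H R (∐ X)), fun l => nat_ext H R fun j x => hφ j l.as x, fun η hη => ?_⟩
  refine nat_ext H R fun j x => ?_
  obtain ⟨y, rfl⟩ := (E j).surjective x
  induction y using DirectSum.induction_on with
  | zero => simp
  | of l z =>
    rw [hof]
    show _ = φ j (z ≫ _)
    rw [hφ]
    exact congrArg (fun ξ : nat H R (X l) => ξ.1 j z) (hη ⟨l⟩)
  | add a b ha hb => simp only [map_add, ha, hb]

variable [HasZeroObject D] [HasShift D ℤ] [∀ n : ℤ, (shiftFunctor D n).Additive] [Pretriangulated D]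
variable (hR : ∀ C : D, CohDer.IsCompactObject C → ∃ j, Nonempty (C ≅ (R j).obj))
  (hfin : ∀ X, Module.Finite k (H.obj X))
  (hcoh : ∀ T ∈ distTriang D, ∀ (h₁ : CohDer.IsCompactObject T.obj₁)
      (h₂ : CohDer.IsCompactObject T.obj₂) (h₃ : CohDer.IsCompactObject T.obj₃)
      (y : H.obj (op ⟨T.obj₂, h₂⟩)),
      H.map (ObjectProperty.homMk T.mor₁ : (⟨T.obj₁, h₁⟩ : ObjectProperty.FullSubcategory
          (fun K : D => CohDer.IsCompactObject K)) ⟶ ⟨T.obj₂, h₂⟩).op y = 0 →
        ∃ z : H.obj (op ⟨T.obj₃, h₃⟩),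
          H.map (ObjectProperty.homMk T.mor₂ : (⟨T.obj₂, h₂⟩ : ObjectProperty.FullSubcategory
            (fun K : D => CohDer.IsCompactObject K)) ⟶ ⟨T.obj₃, h₃⟩).op z = y)

include hR hfin hcoh in
lemma exists_extension {X Y Z : D} {u : X ⟶ Y} {v : Y ⟶ Z} {δ : Z ⟶ X⟦(1 : ℤ)⟧}
    (hT : Triangle.mk u v δ ∈ distTriang D) (η : nat H R Y) (hη : natMap H R u η = 0) :
    ∃ ζ : nat H R Z, natMap H R v ζ = η := by
  let Γ : ∀ j, AddSubgroup (((R j).obj ⟶ Z) × H.obj (op (R j))) := fun j =>
    ((Preadditive.rightComp (R j).obj v).prod (η.1 j)).range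
  have h : IsGood H R Γ := by
    constructor
    · rintro j a ⟨y, hy⟩
      simp only [AddMonoidHom.prod_apply, Prod.mk.injEq] at hy
      obtain ⟨hy, rfl⟩ := hy
      obtain ⟨t, rfl⟩ := Triangle.coyoneda_exact₂ _ hT y hy
      exact congrArg (fun ξ : nat H R X => ξ.1 j t) hη
    · rintro i j g x a ⟨y, hy⟩
      obtain ⟨hy₁, hy₂⟩ := Prod.mk.injEq _ _ _ _ ▸ hy
      subst hy₁ hy₂
      exact ⟨g ≫ y, Prod.ext (Category.assoc g y v) (η.2 i j g y)⟩
  obtain ⟨ζ, hζ⟩ := h.exists_total hR hfin hcoh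
  exact ⟨ζ, nat_ext H R fun j y => hζ j (y ≫ v) _ ⟨y, rfl⟩⟩

include hR hfin hcoh in
lemma natFunctor_isHomological : (natFunctor H R).IsHomological := by
  refine Functor.IsHomological.mk' _ fun T hT => ?_
  refine ⟨T, Iso.refl _, (ShortComplex.ab_exact_iff _).2 fun η hη => ?_⟩
  exact exists_extension hR hfin hcoh ((mem_distTriang_op_iff T).1 hT) η hη

include hR hfin hcoh in
theorem exists_natIso [IsTriangulated D] (hD : CohDer.IsCompactlyGenerated D) [Linear k D]
    (hlin : ∀ (X Y : ObjectProperty.FullSubcategory (fun K : D => CohDer.IsCompactObject K))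
      (r : k) (f : X ⟶ Y), H.map (r • f).op = r • H.map f.op) :
    ∃ Y : D, Nonempty (H ≅ (ObjectProperty.ι _).op ⋙ (linearYoneda k D).obj Y) := by
  classical
  haveI := natFunctor_isHomological hR hfin hcoh
  haveI : ∀ J : Type v, PreservesLimitsOfShape (Discrete J) (natFunctor H R) := natFunctor_preserves
  obtain ⟨⟨Y, ⟨rep⟩⟩⟩ :=
    Groth.DerivedCoh.Brown.isRepresentable_of_compactlyGenerated hD (natFunctor H R)
  let θ : nat H R Y := rep.homEquiv (𝟙 Y)
  have hrep : ∀ (Z : D) (f : Z ⟶ Y), rep.homEquiv f = natMap H R f θ := fun Z f =>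
    rep.homEquiv_eq f
  have key : ∀ j, Function.Bijective (θ.1 j) := fun j => by
    refine ⟨fun f g h => rep.homEquiv.injective ?_, fun a => ?_⟩
    · rw [hrep, hrep]
      refine nat_ext H R fun i x => ?_
      rw [natMap_apply, natMap_apply, θ.2 i j x f, θ.2 i j x g, h]
    · let ηa : nat H R (R j).obj := ⟨fun i => AddMonoidHom.mk' (fun x => pb H x a)
        (fun x y => pb_add H x y a), fun i l g x => pb_comp H g x a⟩
      obtain ⟨f, hf⟩ := rep.homEquiv.surjective (ηa : nat H R (R j).obj)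
      rw [hrep] at hf
      refine ⟨f, ?_⟩
      have h1 := congrArg (fun ξ : nat H R (R j).obj => ξ.1 j (𝟙 _)) hf
      simp only [natMap_apply, Category.id_comp] at h1
      exact h1.trans (pb_id H (R j) a)
  choose jC eC using fun C : Cpt D => hR C.obj C.property
  let ε : ∀ C : Cpt D, C.obj ≅ (R (jC C)).obj := fun C => (eC C).some
  let ψ : ∀ C : Cpt D, (C.obj ⟶ Y) → H.obj (op C) := fun C f =>
    pb H (ε C).hom (θ.1 (jC C) ((ε C).inv ≫ f))
  have hψ : ∀ (A B : Cpt D) (g : A.obj ⟶ B.obj) (f : B.obj ⟶ Y),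
      ψ A (g ≫ f) = pb H g (ψ B f) := fun A B g f => by
    have : (ε A).inv ≫ g ≫ f = ((ε A).inv ≫ g ≫ (ε B).hom) ≫ (ε B).inv ≫ f := by simp
    simp only [ψ]
    rw [this, θ.2, ← pb_comp, ← pb_comp]
    simp
  have hbij : ∀ C, Function.Bijective (ψ C) := fun C => by
    have h1 : Function.Bijective fun f : C.obj ⟶ Y => θ.1 (jC C) ((ε C).inv ≫ f) :=
      (key _).comp (ε C).homFromEquiv.bijective
    have h2 : Function.Bijective (pb H (A := C) (B := R (jC C)) (ε C).hom) := by
      refine Function.bijective_iff_has_inverse.2 ⟨pb H (ε C).inv, fun a => ?_, fun a => ?_⟩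
      · rw [← pb_comp, Iso.inv_hom_id, pb_id]
      · rw [← pb_comp, Iso.hom_inv_id, pb_id]
    exact h2.comp h1
  have hsmul : ∀ C (r : k) (f : C.obj ⟶ Y), ψ C (r • f) = r • ψ C f := fun C r f => by
    have hr : r • f = (r • 𝟙 C.obj) ≫ f := by rw [Linear.smul_comp, Category.id_comp]
    have hmk : (ObjectProperty.homMk (r • 𝟙 C.obj) : C ⟶ C) = r • 𝟙 C := rfl
    rw [hr, hψ C C]
    show (H.map (ObjectProperty.homMk (r • 𝟙 C.obj) : C ⟶ C).op).hom (ψ C f) = _
    rw [hmk, hlin, op_id, H.map_id]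
    rfl
  let L : ∀ C : Cpt D, (C.obj ⟶ Y) ≃ₗ[k] H.obj (op C) := fun C => LinearEquiv.ofBijective
    { toFun := ψ C
      map_add' := fun f g => by simp only [ψ, Preadditive.comp_add, map_add]
      map_smul' := hsmul C } (hbij C)
  refine ⟨Y, ⟨(NatIso.ofComponents (fun C => (L C.unop).toModuleIso) ?_).symm⟩⟩
  intro A B g
  ext f
  exact hψ B.unop A.unop g.unop.hom f

end Groth.DEquivH6.Findim
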