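import Mathlib.Algebra.Category.ModuleCat.Abelian
import Mathlib.Algebra.Homology.DerivedCategory.HomologySequence
import Mathlib.Algebra.Homology.DerivedCategory.FullyFaithful
import Mathlib.Algebra.Homology.DerivedCategory.Linear
import Mathlib.Algebra.Homology.DerivedCategory.TStructure
import Mathlib.Algebra.Homology.ShortComplex.Linear
import Mathlib.Algebra.Homology.ShortComplex.ModuleCat
import Mathlib.Algebra.Homology.Linear
import Mathlib.CategoryTheory.Triangulated.TStructure.TruncLTGE
import Mathlib.Data.Int.LeastGreatest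
import Mathlib.RingTheory.Nakayama
import Mathlib.RingTheory.LocalRing.ResidueField.Basic
import Mathlib.RingTheory.Noetherian.Basic

/-!
# Complexes over a Noetherian local ring receiving no maps from the residue field
-/

set_option autoImplicit false

universe u

open CategoryTheory CategoryTheory.Limits CategoryTheory.Pretriangulated
open DerivedCategory.TStructure

namespace Groth.DEquivH6.LocalVanish

variable {A : Type u} [CommRing A] [HasDerivedCategory.{u + 1} (ModuleCat.{u} A)]

local notation "H" => DerivedCategory.homologyFunctor (ModuleCat A)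

lemma homology_smul (L : DerivedCategory (ModuleCat.{u} A)) (a : A) (j : ℤ) (y : (H j).obj L) :
    (H j).map (a • 𝟙 L) y = a • y := by
  have key : ∀ K : CochainComplex (ModuleCat.{u} A) ℤ,
      (H j).map (a • 𝟙 (DerivedCategory.Q.obj K)) = a • 𝟙 _ := fun K => by
    have h1 : a • 𝟙 (DerivedCategory.Q.obj K) = DerivedCategory.Q.map (a • 𝟙 K) := by
      rw [Functor.map_smul, CategoryTheory.Functor.map_id]
    have h2 : HomologicalComplex.homologyMap (a • 𝟙 K) j = a • 𝟙 _ := by
      have h3 : (HomologicalComplex.shortComplexFunctor (ModuleCat.{u} A) (ComplexShape.up ℤ) j).map (a • 𝟙 K)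
          = a • 𝟙 (K.sc j) := by
        ext <;> rfl
      show ShortComplex.homologyMap _ = _
      rw [h3, ShortComplex.homologyMap_smul, ShortComplex.homologyMap_id]
      rfl
    rw [h1]
    let φ : (H j).obj (DerivedCategory.Q.obj K) ⟶ K.homology j :=
      (DerivedCategory.homologyFunctorFactors (ModuleCat.{u} A) j).hom.app K
    have : IsIso φ := inferInstanceAs (IsIso ((DerivedCategory.homologyFunctorFactors (ModuleCat.{u} A) j).hom.app K))
    have h4 : (H j).map (DerivedCategory.Q.map (a • 𝟙 K)) ≫ φ =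
        φ ≫ HomologicalComplex.homologyMap (a • 𝟙 K) j :=
      (DerivedCategory.homologyFunctorFactors (ModuleCat.{u} A) j).hom.naturality (a • 𝟙 K)
    rw [h2, Linear.comp_smul, Category.comp_id] at h4
    rw [← cancel_mono φ, h4, Linear.smul_comp, Category.id_comp]
  let e := DerivedCategory.Q.objObjPreimageIso L
  have he : a • 𝟙 L = e.inv ≫ (a • 𝟙 _) ≫ e.hom := by
    rw [Linear.smul_comp, Category.id_comp, Linear.comp_smul, Iso.inv_hom_id]
  rw [he, Functor.map_comp, Functor.map_comp, key, Linear.smul_comp, Category.id_comp, Linear.comp_smul,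
    ← Functor.map_comp, Iso.inv_hom_id, CategoryTheory.Functor.map_id]
  rfl

variable [IsNoetherianRing A] [IsLocalRing A]

omit [HasDerivedCategory.{u + 1} (ModuleCat.{u} A)] [IsNoetherianRing A] [IsLocalRing A] in
/-- a finite module killed by a power of the maximal ideal has a nonzero element killed by it -/
lemma exists_socle (Y : Type u) [AddCommGroup Y] [Module A Y] [Nontrivial Y] (s : List A)
    (h : ∀ a ∈ s, ∃ N : ℕ, ∀ y : Y, a ^ N • y = 0) :
    ∃ y : Y, y ≠ 0 ∧ ∀ a ∈ s, a • y = 0 := by
  classical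
  induction s with
  | nil => obtain ⟨y, hy⟩ := exists_ne (0 : Y); exact ⟨y, hy, fun a ha => absurd ha (List.not_mem_nil)⟩
  | cons b s ih =>
    obtain ⟨y, hy, hys⟩ := ih fun a ha => h a (List.mem_cons_of_mem _ ha)
    obtain ⟨N, hN⟩ := h b List.mem_cons_self
    let P : ℕ → Prop := fun n => b ^ n • y = 0
    have hP : ∃ n, P n := ⟨N, hN y⟩
    have hpos : Nat.find hP ≠ 0 := fun h0 => hy (by simpa [P, h0] using Nat.find_spec hP)
    obtain ⟨n, hn⟩ := Nat.exists_eq_succ_of_ne_zero hpos
    refine ⟨b ^ n • y, Nat.find_min hP (by omega), fun a ha => ?_⟩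
    rcases List.mem_cons.1 ha with rfl | ha
    · rw [← mul_smul, ← pow_succ']
      have := Nat.find_spec hP
      rwa [hn] at this
    · rw [smul_comm, hys a ha, smul_zero]

/-- the maps from the residue field detect the bottom cohomology -/
lemma exists_hom_ne_zero_bottom (L : DerivedCategory (ModuleCat.{u} A)) (j : ℤ) [L.IsGE j] (s : List A)
    (hs : Ideal.span {a | a ∈ s} = IsLocalRing.maximalIdeal A)
    (hkill : ∀ a ∈ s, ∃ N : ℕ, ∀ y : (H j).obj L, a ^ N • y = 0)
    (hj : ¬ IsZero ((H j).obj L)) :
    ∃ (i : ℤ) (ψ : (DerivedCategory.singleFunctor (ModuleCat.{u} A) 0).obj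
      (ModuleCat.of A (IsLocalRing.ResidueField A)) ⟶ L⟦i⟧), ψ ≠ 0 := by
  have hnt : Nontrivial ((H j).obj L) := by
    rw [← not_subsingleton_iff_nontrivial]
    exact fun hh => hj (ModuleCat.isZero_of_subsingleton _)
  obtain ⟨y, hy, hys⟩ := exists_socle (A := A) ((H j).obj L) s hkill
  have hym : ∀ a ∈ IsLocalRing.maximalIdeal A, a • y = 0 := fun a ha => by
    rw [← hs] at ha
    induction ha using Submodule.span_induction with
    | mem a ha => exact hys a ha
    | zero => exact zero_smul A y
    | add a b _ _ ha hb => rw [add_smul, ha, hb, add_zero]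
    | smul c a _ ha => rw [smul_eq_mul, mul_smul, ha, smul_zero]
  let T := (t.triangleLTGE (j + 1)).obj L
  have hT : T ∈ distTriang _ := t.triangleLTGE_distinguished (j + 1) L
  have h1 : t.IsLE ((t.truncLT (j + 1)).obj L) j := t.isLE_truncLT_obj L (j + 1) j (by omega)
  have h2 : ((t.truncGE (j + 1)).obj L).IsGE (j + 1) := inferInstance
  have h3 : t.IsGE ((t.truncLT (j + 1)).obj L) j := inferInstance
  obtain ⟨Y, ⟨eY⟩⟩ :=
    DerivedCategory.exists_iso_singleFunctor_obj_of_isGE_of_isLE ((t.truncLT (j + 1)).obj L) j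
  have hmono : Mono ((H j).map ((t.truncLTι (j + 1)).app L)) :=
    (DerivedCategory.HomologySequence.mono_homologyMap_mor₁_iff T hT (j - 1) j (by omega)).2
      ((DerivedCategory.isZero_of_isGE ((t.truncGE (j + 1)).obj L) (j + 1) (j - 1) (by omega)).eq_of_src _ _)
  have hepi : Epi ((H j).map ((t.truncLTι (j + 1)).app L)) :=
    (DerivedCategory.HomologySequence.epi_homologyMap_mor₁_iff T hT j).2
      ((DerivedCategory.isZero_of_isGE ((t.truncGE (j + 1)).obj L) (j + 1) j (by omega)).eq_of_tgt _ _)
  let p : (DerivedCategory.singleFunctor _ j).obj Y ⟶ L := eY.inv ≫ (t.truncLTι (j + 1)).app L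
  have hp : IsIso ((H j).map p) := by
    have := isIso_of_mono_of_epi ((H j).map ((t.truncLTι (j + 1)).app L))
    simp only [p, Functor.map_comp]
    infer_instance
  obtain ⟨eH⟩ : Nonempty (Y ≅ (H j).obj L) :=
    ⟨((DerivedCategory.singleFunctorCompHomologyFunctorIso _ j).app Y).symm ≪≫ asIso ((H j).map p)⟩
  let f : IsLocalRing.ResidueField A →ₗ[A] Y :=
    (eH.inv.hom ∘ₗ Submodule.liftQ (IsLocalRing.maximalIdeal A)
      (LinearMap.toSpanSingleton A ((H j).obj L) y) (fun a ha => hym a ha))
  have hf : f ≠ 0 := by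
    intro h0
    refine hy ?_
    have h : eH.inv ((1 : A) • y) = 0 := LinearMap.congr_fun h0 (Submodule.Quotient.mk 1)
    have h' := congrArg eH.hom h
    rwa [← ConcreteCategory.comp_apply, Iso.inv_hom_id, map_zero, ConcreteCategory.id_apply, one_smul] at h'
  let σ := ((DerivedCategory.singleFunctors (ModuleCat.{u} A)).shiftIso j 0 j (by omega)).app
    (ModuleCat.of A (IsLocalRing.ResidueField A))
  refine ⟨j, σ.inv ≫ ((DerivedCategory.singleFunctor _ j).map (ModuleCat.ofHom f) ≫ p)⟦j⟧', fun h0 => hf ?_⟩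
  have h4 : (DerivedCategory.singleFunctor _ j).map (ModuleCat.ofHom f) ≫ p = 0 := by
    apply (shiftFunctor (DerivedCategory (ModuleCat.{u} A)) j).map_injective
    rw [Functor.map_zero, ← cancel_epi σ.inv, h0]
    simp
  have h5 := congrArg (H j).map h4
  rw [Functor.map_comp, Functor.map_zero] at h5
  have h5 := (cancel_mono ((H j).map p)).1 (h5.trans zero_comp.symm)
  have h6 := (DerivedCategory.singleFunctorCompHomologyFunctorIso (ModuleCat.{u} A) j).hom.naturality (ModuleCat.ofHom f)
  simp only [Functor.comp_map, Functor.id_map] at h6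
  have h7 : ModuleCat.ofHom f = 0 := by
    rw [← cancel_epi ((DerivedCategory.singleFunctorCompHomologyFunctorIso (ModuleCat.{u} A) j).hom.app _),
      ← h6, h5]
    simp
  exact ModuleCat.hom_ext_iff.1 h7

/-- A bounded below complex with finite cohomology receiving no maps from the residue field, whose
cohomology is killed by powers of the elements of `s`, is zero. -/
theorem isZero_homology (s r : List A)
    (hs : Ideal.span {a | a ∈ s} = IsLocalRing.maximalIdeal A) :
    ∀ (L : DerivedCategory (ModuleCat.{u} A)) (j₀ : ℤ), L.IsGE j₀ → (∀ i, Module.Finite A ((H i).obj L)) →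
      (∀ (i : ℤ) (ψ : (DerivedCategory.singleFunctor (ModuleCat.{u} A) 0).obj
        (ModuleCat.of A (IsLocalRing.ResidueField A)) ⟶ L⟦i⟧), ψ = 0) →
      (∀ i, ∀ a ∈ s, a ∈ r ∨ ∃ N : ℕ, ∀ y : (H i).obj L, a ^ N • y = 0) →
      (∀ a ∈ r, a ∈ s) → ∀ i, IsZero ((H i).obj L) := by
  induction r with
  | nil =>
    intro L j₀ hL _ hhom hkill _
    by_contra hne
    push Not at hne
    obtain ⟨i, hi⟩ := hne
    obtain ⟨j, hj, hjmin⟩ := Int.exists_least_of_bdd (P := fun j => ¬ IsZero ((H j).obj L))
      ⟨j₀, fun j hj => le_of_not_gt fun h => hj (DerivedCategory.isZero_of_isGE L j₀ j h)⟩ ⟨i, hi⟩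
    have : L.IsGE j := (DerivedCategory.isGE_iff _ _).2 fun l hl => by
      by_contra h
      exact absurd (hjmin l h) (not_le.2 hl)
    obtain ⟨n, ψ, hψ⟩ := exists_hom_ne_zero_bottom L j s hs
      (fun a ha => (hkill j a ha).resolve_left (List.not_mem_nil)) hj
    exact hψ (hhom n ψ)
  | cons b r ih =>
    intro L j₀ hL hfin hhom hkill hr i
    obtain ⟨C, g, δ, hT⟩ := distinguished_cocone_triangle (b • 𝟙 L)
    let T := Triangle.mk (b • 𝟙 L) g δ
    let d : ∀ l : ℤ, (H l).obj C →ₗ[A] (H (l + 1)).obj L := fun l =>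
      (DerivedCategory.HomologySequence.δ T l (l + 1) rfl).hom
    let g' : ∀ l : ℤ, (H l).obj L →ₗ[A] (H l).obj C := fun l => ((H l).map g).hom
    have hex : ∀ l, Function.Exact (g' l) (d l) := fun l => by
      rw [LinearMap.exact_iff]
      exact ((ShortComplex.moduleCat_exact_iff_range_eq_ker _).1
        (DerivedCategory.HomologySequence.exact₃ T hT l (l + 1) rfl)).symm
    have hbd : ∀ l (y : (H l).obj C), b • d l y = 0 := fun l y => by
      have := ConcreteCategory.congr_hom
        (DerivedCategory.HomologySequence.δ_comp T hT l (l + 1) rfl) y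
      change (H (l + 1)).map (b • 𝟙 L) (d l y) = 0 at this
      rwa [homology_smul] at this
    have hgb : ∀ l (z : (H l).obj L), g' l (b • z) = 0 := fun l z => by
      rw [← homology_smul]
      have h0 : (b • 𝟙 L) ≫ g = 0 := comp_distTriang_mor_zero₁₂ _ hT
      show ((H l).map (b • 𝟙 L) ≫ (H l).map g) z = 0
      rw [← Functor.map_comp, h0, Functor.map_zero]
      rfl
    have hC : C.IsGE (j₀ - 1) := (DerivedCategory.isGE_iff _ _).2 fun l hl =>
      (DerivedCategory.HomologySequence.exact₃ T hT l (l + 1) rfl).isZero_X₂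
        ((DerivedCategory.isZero_of_isGE L j₀ l (by omega)).eq_of_src _ _)
        ((DerivedCategory.isZero_of_isGE L j₀ (l + 1) (by omega)).eq_of_tgt _ _)
    have hCfin : ∀ l, Module.Finite A ((H l).obj C) := fun l => by
      have := hfin l
      have := hfin (l + 1)
      have h1 : Module.Finite A (LinearMap.ker (d l)) := by
        rw [LinearMap.exact_iff.1 (hex l)]
        exact Module.Finite.range _
      have h2 : Module.Finite A (((H l).obj C : Type u) ⧸ LinearMap.ker (d l)) :=
        Module.Finite.equiv (d l).quotKerEquivRange.symm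
      exact Module.Finite.of_submodule_quotient (LinearMap.ker (d l))
    have hChom : ∀ (l : ℤ) (ψ : (DerivedCategory.singleFunctor (ModuleCat.{u} A) 0).obj
        (ModuleCat.of A (IsLocalRing.ResidueField A)) ⟶ C⟦l⟧), ψ = 0 := fun l ψ => by
      have hTl := Triangle.shift_distinguished T hT l
      obtain ⟨φ, hφ⟩ := Triangle.coyoneda_exact₃ _ hTl ψ (by
        let e3 : (L⟦l⟧)⟦(1 : ℤ)⟧ ≅ L⟦(l + 1)⟧ := ((shiftFunctorAdd (DerivedCategory (ModuleCat.{u} A)) l 1).app L).symm
        have key : ∀ χ : (DerivedCategory.singleFunctor (ModuleCat.{u} A) 0).obj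
            (ModuleCat.of A (IsLocalRing.ResidueField A)) ⟶ (L⟦l⟧)⟦(1 : ℤ)⟧, χ = 0 := fun χ => by
          rw [← cancel_mono e3.hom, zero_comp]
          exact hhom _ _
        exact key _)
      refine hφ.trans ?_
      rw [show φ = 0 from hhom l φ]
      exact zero_comp
    have hCkill : ∀ l, ∀ a ∈ s, a ∈ r ∨ ∃ N : ℕ, ∀ y : (H l).obj C, a ^ N • y = 0 := fun l a ha => by
      by_cases har : a ∈ r
      · exact Or.inl har
      refine Or.inr ?_
      by_cases hab : a = b
      · subst hab
        refine ⟨2, fun y => ?_⟩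
        obtain ⟨z, hz⟩ := (hex l (a • y)).1 (by rw [map_smul, hbd])
        rw [pow_two, mul_smul, ← hz, ← map_smul, hgb]
      · obtain ⟨N, hN⟩ := (hkill l a ha).resolve_left fun h => (List.mem_cons.1 h).elim hab har
        obtain ⟨M, hM⟩ := (hkill (l + 1) a ha).resolve_left fun h => (List.mem_cons.1 h).elim hab har
        refine ⟨N + M, fun y => ?_⟩
        obtain ⟨z, hz⟩ := (hex l (a ^ M • y)).1 (by rw [map_smul, hM])
        rw [pow_add, mul_smul, ← hz, ← map_smul, hN, map_zero]
    have hzero := ih C (j₀ - 1) hC hCfin hChom hCkill fun a ha => hr a (List.mem_cons_of_mem _ ha)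
    have hepi : Epi ((H i).map (b • 𝟙 L)) :=
      (DerivedCategory.HomologySequence.epi_homologyMap_mor₁_iff T hT i).2 ((hzero i).eq_of_tgt _ _)
    have hsurj := (ModuleCat.epi_iff_surjective _).1 hepi
    have := hfin i
    have htop : (⊤ : Submodule A ((H i).obj L)) = ⊥ := by
      refine Submodule.eq_bot_of_le_smul_of_le_jacobson_bot (Ideal.span {b}) ⊤ Module.Finite.fg_top
        (fun y _ => ?_) ?_
      · obtain ⟨z, rfl⟩ := hsurj y
        rw [homology_smul]
        exact Submodule.smul_mem_smul (Ideal.mem_span_singleton_self b) Submodule.mem_top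
      · rw [IsLocalRing.jacobson_eq_maximalIdeal ⊥ bot_ne_top, Ideal.span_singleton_le_iff_mem, ← hs]
        exact Ideal.subset_span (hr b List.mem_cons_self)
    have : Subsingleton ((H i).obj L) := ⟨fun x y => by
      have : ∀ z : (H i).obj L, z = 0 := fun z => by
        rw [← Submodule.mem_bot A, ← htop]; exact Submodule.mem_top
      rw [this x, this y]⟩
    exact ModuleCat.isZero_of_subsingleton _

/-- A bounded below complex with finite cohomology over a Noetherian local ring receiving no maps
from the residue field is zero. -/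
theorem isZero_homology_of_hom_residue (L : DerivedCategory (ModuleCat.{u} A)) (j₀ : ℤ) [L.IsGE j₀]
    (hfin : ∀ i, Module.Finite A ((H i).obj L))
    (hhom : ∀ (i : ℤ) (ψ : (DerivedCategory.singleFunctor (ModuleCat.{u} A) 0).obj
        (ModuleCat.of A (IsLocalRing.ResidueField A)) ⟶ L⟦i⟧), ψ = 0) (i : ℤ) :
    IsZero ((H i).obj L) := by
  obtain ⟨S, hS⟩ := (inferInstance : IsNoetherianRing A).noetherian (IsLocalRing.maximalIdeal A)
  exact isZero_homology S.toList S.toList (by rw [← hS]; simp) L j₀ inferInstance hfin hhom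
    (fun _ _ ha => Or.inl ha) (fun _ ha => ha) i

end Groth.DEquivH6.LocalVanish
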