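import Groth.Agent.DEquivH6.TopHom

/-!
# Vanishing of stalks of cohomology and maps to the point sheaf
-/

set_option autoImplicit false

universe u

open CategoryTheory CategoryTheory.Limits AlgebraicGeometry
open Groth.DerivedCoh.KFlat (stk)

namespace Groth.DEquivH6.Point

attribute [local instance] HasDerivedCategory.standard

variable {X : Scheme.{u}}

lemma isLE_stkD (x : X) (K : DCoh.D X) (c : ℤ) [DerivedCategory.IsLE K c] :
    DerivedCategory.IsLE ((stk x).mapDerivedCategory.obj K) c := by
  rw [DerivedCategory.isLE_iff]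
  intro i hi
  obtain ⟨e⟩ := Groth.Calg1.DualSch.nonempty_homology_mapDerivedCategory (stk x) K i
  exact IsZero.of_iso ((stk x).map_isZero (DerivedCategory.isZero_of_isLE K c i hi)) e

lemma finite_homology_stkD (x : X) (K : DCoh.D X) (hK : DCoh.IsCohD K) (i : ℤ) :
    Module.Finite (X.presheaf.stalk x)
      ↥((DerivedCategory.homologyFunctor (ModuleCat.{u} (X.presheaf.stalk x)) i).obj
        ((stk x).mapDerivedCategory.obj K)) := by
  obtain ⟨e⟩ := Groth.Calg1.DualSch.nonempty_homology_mapDerivedCategory (stk x) K i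
  have hq : (DCoh.HD K i).IsQuasicoherent := (hK i).1
  have := Groth.QCohMod.finite_stalk (DCoh.HD K i) (hK i).2 x
  have h : Module.Finite (X.presheaf.stalk x) ↥((stk x).obj (DCoh.HD K i)) := this
  exact Module.Finite.equiv e.symm.toLinearEquiv

/-- the stalks of the cohomology vanish above `b` iff there are no maps to the shifts of the point -/
theorem stalks_vanish_iff (x : X) (K : DCoh.D X) (hK : DCoh.IsCohD K) (c : ℤ) [DerivedCategory.IsLE K c]
    (b : ℤ) :
    (∀ i : ℤ, b < i → x ∉ CohB1.support (DCoh.HD K i)) ↔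
      ∀ i : ℤ, b < i → ∀ φ : K ⟶ (shiftFunctor (DCoh.D X) (-i)).obj (DCoh.inD X (pointMod x)), φ = 0 := by
  simp only [notMem_support_iff, homPointEquiv_eq_zero_iff]
  have hc := isLE_stkD x K c
  constructor
  · intro h i hi ψ
    have : DerivedCategory.IsLE ((stk x).mapDerivedCategory.obj K) b :=
      (DerivedCategory.isLE_iff _ _).2 h
    exact hom_eq_zero_of_isLE _ b i hi ψ
  · intro h i hi
    by_contra hne
    obtain ⟨N, hN, hNmax⟩ := Int.exists_greatest_of_bdd
      (P := fun j => b < j ∧ ¬ IsZero ((DerivedCategory.homologyFunctor _ j).obj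
        ((stk x).mapDerivedCategory.obj K)))
      ⟨c, fun j hj => le_of_not_gt fun hcj => hj.2 (DerivedCategory.isZero_of_isLE _ c j hcj)⟩ ⟨i, hi, hne⟩
    have : DerivedCategory.IsLE ((stk x).mapDerivedCategory.obj K) N :=
      (DerivedCategory.isLE_iff _ _).2 fun j hj => by
        by_contra hj'
        exact absurd (hNmax j ⟨hN.1.trans hj, hj'⟩) (not_le.2 hj)
    have := finite_homology_stkD x K hK N
    obtain ⟨ψ, hψ⟩ := exists_hom_ne_zero _ N hN.2
    exact hψ (h N hN.1 ψ)

end Groth.DEquivH6.Point
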