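import Groth.Agent.DEquivH6.PointHom
import Groth.Agent.DEquivH6.PointVanish
import Groth.Agent.DEquivH6.LocalVanish
import Groth.Agent.KTheory.PerfCoh
import Groth.Agent.CohTwo.SupportLocal

/-!
# Perfect objects orthogonal to a point sheaf vanish near the point
-/

set_option autoImplicit false

universe u

open CategoryTheory CategoryTheory.Limits AlgebraicGeometry TopologicalSpace
open Groth.DerivedCoh.KFlat (stk)

namespace Groth.DEquivH6.Point

attribute [local instance] HasDerivedCategory.standard

variable {X : Scheme.{u}}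

/-- a bounded object with coherent cohomology whose stalks vanish at `x` vanishes near `x` -/
theorem exists_nhd_of_stalks (K : DCoh.D X) (hK : DCoh.IsCohD K) (a b : ℤ) [K.IsGE a] [K.IsLE b]
    (x : X) (h : ∀ i, x ∉ CohB1.support (DCoh.HD K i)) :
    ∃ U : X.Opens, x ∈ U ∧ ∀ (i : ℤ) (y : X), y ∈ U → y ∉ CohB1.support (DCoh.HD K i) := by
  let C : Set X := ⋃ i ∈ Finset.Icc a b, CohB1.support (DCoh.HD K i)
  have hC : IsClosed C :=
    Set.Finite.isClosed_biUnion (Finset.Icc a b).finite_toSet fun i _ =>
      Groth.CohTwo.isClosed_support _ (hK i)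
  refine ⟨⟨Cᶜ, hC.isOpen_compl⟩, fun hx => ?_, fun i y hy hi => ?_⟩
  · obtain ⟨i, -, hi⟩ := Set.mem_iUnion₂.1 hx
    exact h i hi
  · by_cases hab : a ≤ i ∧ i ≤ b
    · exact hy (Set.mem_iUnion₂.2 ⟨i, Finset.mem_Icc.2 hab, hi⟩)
    · have hz : IsZero (DCoh.HD K i) := by
        rcases not_and_or.1 hab with hh | hh
        · exact DerivedCategory.isZero_of_isGE K a i (not_le.1 hh)
        · exact DerivedCategory.isZero_of_isLE K b i (not_le.1 hh)
      refine hi ?_
      have hz' := (stk y).map_isZero hz
      exact ModuleCat.subsingleton_of_isZero hz'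

/-- No maps from the point sheaf into the shifts of `K`: the stalks vanish. -/
theorem stalks_vanish_of_hom_from [IsLocallyNoetherian X] {x : X} (hx : IsClosed ({x} : Set X))
    (K : DCoh.D X) (hK : DCoh.IsCohD K) (a : ℤ) [K.IsGE a]
    (h : ∀ (i : ℤ) (φ : DCoh.inD X (pointMod x) ⟶ (shiftFunctor (DCoh.D X) i).obj K), φ = 0) (i : ℤ) :
    x ∉ CohB1.support (DCoh.HD K i) := by
  rw [notMem_support_iff]
  have hge : ((stk x).mapDerivedCategory.obj K).IsGE a := (DerivedCategory.isGE_iff _ _).2 fun j hj => by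
    obtain ⟨e⟩ := Groth.Calg1.DualSch.nonempty_homology_mapDerivedCategory (stk x) K j
    exact IsZero.of_iso ((stk x).map_isZero (DerivedCategory.isZero_of_isGE K a j hj)) e
  refine Groth.DEquivH6.LocalVanish.isZero_homology_of_hom_residue _ a
    (fun j => finite_homology_stkD x K hK j) (fun j ψ => ?_) i
  have : DerivedCategory.IsGE ((shiftFunctor (DCoh.D X) j).obj K) (a - j) :=
    DerivedCategory.TStructure.t.isGE_shift K a j (a - j) (by omega)
  have h0 := hom_residue_eq_zero hx ((shiftFunctor (DCoh.D X) j).obj K) (a - j) (h j)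
    (ψ ≫ ((stk x).mapDerivedCategory.commShiftIso j).inv.app K)
  rw [← cancel_mono (((stk x).mapDerivedCategory.commShiftIso j).inv.app K), zero_comp]
  exact h0

end Groth.DEquivH6.Point
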