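import Groth.Agent.DEquivH6.PointSheaf
import Groth.Agent.S11155
import Groth.Agent.KTheory.InjResSES
import Mathlib.Algebra.Homology.DerivedCategory.KInjective
import Mathlib.Algebra.Homology.HomotopyCategory.KInjective
import Mathlib.AlgebraicGeometry.Noetherian

/-!
# Maps out of the point sheaf at a closed point
-/

set_option autoImplicit false

universe u

open CategoryTheory CategoryTheory.Limits AlgebraicGeometry TopologicalSpace Opposite
open Groth.DerivedCoh.KFlat (stk skyF skyAdj skyStkNatIso)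
open Groth.QCohMod (SkyObj sky germ germ_res germ_smul)

namespace Groth.DEquivH6.Point

attribute [local instance] HasDerivedCategory.standard

variable {X : Scheme.{u}}

lemma mod_ext (M : X.Modules) {U : X.Opens} {a b : Γ(M, U)}
    (h : ∀ y (hy : y ∈ U), germ M y hy a = germ M y hy b) : a = b :=
  TopCat.Presheaf.section_ext ⟨M.presheaf, M.isSheaf⟩ U a b h

/-- the complement of a closed point -/
abbrev away (x : X) (hx : IsClosed ({x} : Set X)) : X.Opens := ⟨{x}ᶜ, hx.isOpen_compl⟩

variable [IsLocallyNoetherian X] (M : X.Modules) {x : X} (hx : IsClosed ({x} : Set X))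

include hx in
lemma exists_nhd_germ_zero (c : M.presheaf.stalk x)
    (hc : ∀ a ∈ IsLocalRing.maximalIdeal (X.presheaf.stalk x), a • c = 0) :
    ∃ (W : X.Opens) (hW : x ∈ W) (s : Γ(M, W)), germ M x hW s = c ∧
      ∀ y (hy : y ∈ W), y ≠ x → germ M y hy s = 0 := by
  classical
  obtain ⟨U, hU, s, rfl⟩ := Groth.QCohMod.exists_germ M x c
  obtain ⟨_, ⟨V : X.Opens, hV, rfl⟩, hxV, hVU⟩ :=
    X.isBasis_affineOpens.exists_subset_of_mem_open hU U.2
  have : IsNoetherianRing Γ(X, V) := IsLocallyNoetherian.component_noetherian ⟨V, hV⟩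
  let p := (hV.primeIdealOf ⟨x, hxV⟩).asIdeal
  obtain ⟨S, hS⟩ := (inferInstance : IsNoetherianRing Γ(X, V)).noetherian p
  have hunit : ∀ (y : X) (hy : y ∈ V) (r : Γ(X, V)),
      r ∈ (hV.primeIdealOf ⟨y, hy⟩).asIdeal ↔
        X.presheaf.germ V y hy r ∈ IsLocalRing.maximalIdeal (X.presheaf.stalk y) := fun y hy r => by
    let _ : Algebra Γ(X, V) (X.presheaf.stalk y) := TopCat.Presheaf.algebra_section_stalk X.presheaf ⟨y, hy⟩
    have := hV.isLocalization_stalk ⟨y, hy⟩
    exact (IsLocalization.AtPrime.to_map_mem_maximal_iff (X.presheaf.stalk y)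
      (hV.primeIdealOf ⟨y, hy⟩).asIdeal r).symm
  have hloc : ∀ r ∈ S, ∃ W : X.Opens, x ∈ W ∧ ∃ hWV : W ≤ V, ∀ (y : X) (hy : y ∈ W),
      X.presheaf.germ V y (hWV hy) r • germ M y (hVU (hWV hy)) s = 0 := fun r hr => by
    have h0 : germ M x hxV (r • Groth.QCohMod.res M hVU s) = germ M x hxV (0 : Γ(M, V)) := by
      rw [germ_smul, germ_res, map_zero]
      exact hc _ ((hunit x hxV r).1 (hS.le (Submodule.subset_span hr)))
    obtain ⟨W, hxW, h₁, h₂, e⟩ := Groth.QCohMod.exists_res_eq_of_germ_eq x hxV hxV _ _ h0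
    refine ⟨W, hxW, h₁, fun y hy => ?_⟩
    have := congrArg (germ M y hy) e
    rw [germ_res, germ_res, germ_smul, germ_res, map_zero] at this
    exact this
  choose! Wr hWr hWrV hkill using hloc
  let W : X.Opens := V ⊓ ⟨⋂ r ∈ S, (Wr r : Set X), isOpen_biInter_finset fun r _ => (Wr r).2⟩
  have hxW : x ∈ W := ⟨hxV, Set.mem_iInter₂.2 hWr⟩
  refine ⟨W, hxW, Groth.QCohMod.res M (inf_le_left.trans hVU) s, germ_res _ _ _ _ _, fun y hy hne => ?_⟩
  rw [germ_res]
  obtain ⟨r, hrS, hr⟩ : ∃ r ∈ S, r ∉ (hV.primeIdealOf ⟨y, hy.1⟩).asIdeal := by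
    by_contra h
    push Not at h
    have hle : p ≤ (hV.primeIdealOf ⟨y, hy.1⟩).asIdeal := hS ▸ Submodule.span_le.2 h
    have hspec : hV.primeIdealOf ⟨x, hxV⟩ ⤳ hV.primeIdealOf ⟨y, hy.1⟩ :=
      (PrimeSpectrum.le_iff_specializes _ _).1 hle
    have h2 := hspec.map hV.fromSpec.continuous
    rw [hV.fromSpec_primeIdealOf, hV.fromSpec_primeIdealOf] at h2
    exact hne (Set.mem_singleton_iff.1 (h2.mem_closed hx rfl))
  have hu : IsUnit (X.presheaf.germ V y hy.1 r) := by
    by_contra h
    exact hr ((hunit y hy.1 r).2 h)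
  refine (hu.smul_eq_zero).1 ?_
  exact hkill r hrS y (Set.mem_iInter₂.1 hy.2 r hrS)

include hx in
/-- killed elements of the stalk extend uniquely to sections vanishing off the point -/
lemma exists_section_supported (c : M.presheaf.stalk x)
    (hc : ∀ a ∈ IsLocalRing.maximalIdeal (X.presheaf.stalk x), a • c = 0) (U : X.Opens) :
    ∃ t : Γ(M, U), (∀ h : x ∈ U, germ M x h t = c) ∧ ∀ y (hy : y ∈ U), y ≠ x → germ M y hy t = 0 := by
  classical
  obtain ⟨W, hW, s, hs, hs0⟩ := exists_nhd_germ_zero M hx c hc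
  by_cases hxU : x ∈ U
  swap
  · exact ⟨0, fun h => absurd h hxU, fun y hy _ => map_zero _⟩
  let Us : Bool → X.Opens := fun b => bif b then U ⊓ W else U ⊓ away x hx
  let sf : ∀ b, Γ(M, Us b) := fun b => match b with
    | true => Groth.QCohMod.res M inf_le_right s
    | false => (0 : Γ(M, U ⊓ away x hx))
  have hcomp : ∀ b b', Groth.QCohMod.res M (inf_le_left : Us b ⊓ Us b' ≤ Us b) (sf b) =
      Groth.QCohMod.res M (inf_le_right : Us b ⊓ Us b' ≤ Us b') (sf b') := by
    have hz : ∀ (y : X) (h1 : y ∈ U ⊓ W) (h2 : y ∈ U ⊓ away x hx),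
        germ M y h1 (Groth.QCohMod.res M inf_le_right s) = germ M y h2 (0 : Γ(M, U ⊓ away x hx)) := fun y h1 h2 => by
      rw [germ_res, map_zero]
      exact hs0 y h1.2 (fun e => h2.2 e)
    intro b b'
    refine mod_ext M fun y hy => ?_
    rw [germ_res, germ_res]
    cases b <;> cases b'
    · rfl
    · exact (hz y hy.2 hy.1).symm
    · exact hz y hy.1 hy.2
    · rfl
  obtain ⟨t, ht, -⟩ := TopCat.Sheaf.existsUnique_gluing' (F := ⟨M.presheaf, M.isSheaf⟩) Us U
    (fun b => homOfLE (by cases b <;> exact inf_le_left))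
    (fun y hy => by
      by_cases e : y = x
      · exact Opens.mem_iSup.2 ⟨true, ⟨hy, e ▸ hW⟩⟩
      · exact Opens.mem_iSup.2 ⟨false, ⟨hy, e⟩⟩)
    sf hcomp
  have key : ∀ (b : Bool) (y : X) (hy : y ∈ U) (hy' : y ∈ Us b),
      germ M y hy t = germ M y hy' (sf b) := fun b y hy hy' => by
    rw [← germ_res M (show Us b ≤ U by cases b <;> exact inf_le_left) y hy' t]
    exact congrArg (germ M y hy') (ht b)
  refine ⟨t, fun h => ?_, fun y hy hne => ?_⟩
  · rw [key true x h ⟨h, hW⟩]
    exact (germ_res M inf_le_right x _ s).trans hs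
  · rw [key false y hy ⟨hy, hne⟩]
    exact map_zero _

include hx in
/-- a map from the residue field to a stalk lifts to the point sheaf -/
theorem exists_lift (v : Groth.DEquivH6.Point.res x ⟶ (stk x).obj M) :
    ∃ φ : (skyF x).obj (Groth.DEquivH6.Point.res x) ⟶ M,
      (stk x).map φ = (skyStkNatIso x).hom.app (Groth.DEquivH6.Point.res x) ≫ v := by
  classical
  let N := Groth.DEquivH6.Point.res x
  have hv : ∀ (n : N) (a : X.presheaf.stalk x), a ∈ IsLocalRing.maximalIdeal (X.presheaf.stalk x) →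
      a • (show M.presheaf.stalk x from v n) = 0 := fun n a ha => by
    have h0 : a • n = 0 := by
      show IsLocalRing.residue (X.presheaf.stalk x) a * _ = 0
      rw [(IsLocalRing.residue_eq_zero_iff a).2 ha, zero_mul]
    exact (map_smul v.hom a n).symm.trans (by rw [h0]; exact map_zero v.hom)
  let val : ∀ U : X.Opens, SkyObj x N U → M.presheaf.stalk x := fun U s =>
    if h : x ∈ U then (show M.presheaf.stalk x from v (s ⟨h⟩)) else 0
  have hval : ∀ (U : X.Opens) (s : SkyObj x N U) (a : X.presheaf.stalk x),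
      a ∈ IsLocalRing.maximalIdeal (X.presheaf.stalk x) → a • val U s = 0 := fun U s a ha => by
    simp only [val]
    split_ifs with h
    · exact hv _ a ha
    · exact smul_zero a
  choose t ht₁ ht₂ using fun (U : X.Opens) (s : SkyObj x N U) =>
    exists_section_supported M hx (val U s) (hval U s) U
  have ext' : ∀ (U : X.Opens) (a b : Γ(M, U)), (∀ h : x ∈ U, germ M x h a = germ M x h b) →
      (∀ y (hy : y ∈ U), y ≠ x → germ M y hy a = germ M y hy b) → a = b := fun U a b h₁ h₂ =>
    mod_ext M fun y hy => by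
      by_cases e : y = x
      · subst e; exact h₁ hy
      · exact h₂ y hy e
  have tadd : ∀ (U : X.Opens) (s s' : SkyObj x N U), t U (s + s') = t U s + t U s' := fun U s s' =>
    ext' _ _ _ (fun h => by
      refine Eq.trans ?_ (map_add (germ M x h) _ _).symm
      rw [ht₁, ht₁, ht₁]
      simp only [val, dif_pos h]
      exact map_add v.hom _ _)
      fun y hy hne => by
        refine Eq.trans ?_ (map_add (germ M y hy) _ _).symm
        rw [ht₂ _ _ y hy hne, ht₂ _ _ y hy hne, ht₂ _ _ y hy hne, add_zero]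
  have tsmul : ∀ (U : X.Opens) (r : Γ(X, U)) (s : SkyObj x N U),
      t U (fun h => X.presheaf.germ U x h.down r • s h) = r • t U s := fun U r s =>
    ext' _ _ _ (fun h => by
      rw [ht₁, germ_smul, ht₁]
      simp only [val, dif_pos h]
      exact map_smul v.hom _ _)
      fun y hy hne => by rw [ht₂ _ _ y hy hne, germ_smul, ht₂ _ _ y hy hne, smul_zero]
  let φ : (skyF x).obj N ⟶ M := ⟨{
      app := fun U => ModuleCat.ofHom (X := SkyObj x N U.unop) (Y := M.val.obj U)
        { toFun := fun s => t U.unop s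
          map_add' := tadd U.unop
          map_smul' := fun r s => tsmul U.unop r s }
      naturality := fun {U V} i => by
        ext s
        have hle : V.unop ≤ U.unop := leOfHom i.unop
        show t V.unop (fun h => (s : SkyObj x N U.unop) ⟨hle h.down⟩) = Groth.QCohMod.res M hle (t U.unop s)
        refine ext' _ _ _ (fun h => ?_) fun y hy hne => ?_
        · rw [ht₁, germ_res, ht₁]
          simp only [val, dif_pos h, dif_pos (hle h)]
        · rw [ht₂ _ _ y hy hne, germ_res, ht₂ _ _ y (hle hy) hne] }⟩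
  refine ⟨φ, ModuleCat.hom_ext (LinearMap.ext fun z => ?_)⟩
  obtain ⟨U, hU, s, rfl⟩ := Groth.QCohMod.exists_germ ((skyF x).obj N) x z
  have h1 : (stk x).map φ (germ ((skyF x).obj N) x hU s) = germ M x hU (t U s) :=
    DerSch.stalkFunctor_map_germ x φ U hU s
  have h2 : (skyStkNatIso x).hom.app N (germ ((skyF x).obj N) x hU s) = (s : SkyObj x N U) ⟨hU⟩ :=
    Groth.QCohMod.fromSky_germ _ hU s
  refine h1.trans ?_
  rw [ht₁]
  simp only [val, dif_pos hU]
  exact congrArg v.hom h2.symm

omit [IsLocallyNoetherian X] in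
include hx in
/-- maps out of a skyscraper at a closed point are detected on the stalk -/
theorem eq_zero_of_stk (N : ModuleCat.{u} (X.presheaf.stalk x)) (φ : (skyF x).obj N ⟶ M)
    (h : (stk x).map φ = 0) : φ = 0 := by
  ext U s
  refine mod_ext M fun y hy => ?_
  refine Eq.trans ?_ (map_zero _).symm
  by_cases e : y = x
  · subst e
    have := LinearMap.congr_fun (ModuleCat.hom_ext_iff.1 h) (germ ((skyF y).obj N) y hy s)
    exact (DerSch.stalkFunctor_map_germ y φ U hy s).symm.trans this
  · let V : X.Opens := U ⊓ away x hx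
    have hyV : y ∈ V := ⟨hy, e⟩
    have hs : Groth.QCohMod.res ((skyF x).obj N) (inf_le_left : V ≤ U) s =
        (0 : Γ((skyF x).obj N, V)) := funext fun hh => (hh.down.2 rfl).elim
    rw [← germ_res M (inf_le_left : V ≤ U) y hyV]
    have hnat : Groth.QCohMod.res M (inf_le_left : V ≤ U) (φ.app U s) =
        φ.app V (Groth.QCohMod.res ((skyF x).obj N) (inf_le_left : V ≤ U) s) :=
      (ConcreteCategory.congr_hom (φ.mapPresheaf.naturality (homOfLE (inf_le_left : V ≤ U)).op) s).symm
    rw [hnat, hs, map_zero, map_zero]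

include hx in
/-- Vanishing of maps from the point sheaf passes to the stalk. -/
theorem hom_residue_eq_zero (K : DCoh.D X) (a : ℤ) [DerivedCategory.IsGE K a]
    (h : ∀ φ : DCoh.inD X (pointMod x) ⟶ K, φ = 0)
    (ψ : (DerivedCategory.singleFunctor (ModuleCat.{u} (X.presheaf.stalk x)) 0).obj
      (Groth.DEquivH6.Point.res x) ⟶ (stk x).mapDerivedCategory.obj K) : ψ = 0 := by
  classical
  let N := Groth.DEquivH6.Point.res x
  obtain ⟨K₀, hK₀, ⟨e₀⟩⟩ := DerivedCategory.exists_iso_Q_obj_of_isGE K a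
  obtain ⟨I, i, _, _, hI, hI'⟩ := Groth.Agent.InjResSES.exists_mono_quasiIso K₀ a
  let e : K ≅ DerivedCategory.Q.obj I := e₀ ≪≫ asIso (DerivedCategory.Q.map i)
  let J : CochainComplex (ModuleCat.{u} (X.presheaf.stalk x)) ℤ :=
    ((stk x).mapHomologicalComplex (ComplexShape.up ℤ)).obj I
  have hJinj : ∀ k, Injective (J.X k) := fun k => by
    have : Module.Injective (X.presheaf.stalk x) ↥((stk x).obj (I.X k)) :=
      Groth.Agent.S11155.result (I.X k) (hI k) x
    exact Module.injective_object_of_injective_module (X.presheaf.stalk x) ((stk x).obj (I.X k))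
  have : J.IsStrictlyGE a := (CochainComplex.isStrictlyGE_iff _ _).2 fun k hk =>
    (stk x).map_isZero (I.isZero_of_isStrictlyGE a k hk)
  have : J.IsKInjective := CochainComplex.isKInjective_of_injective J a
  let eS : (DerivedCategory.singleFunctor (ModuleCat.{u} (X.presheaf.stalk x)) 0).obj N ≅
      DerivedCategory.Q.obj ((HomologicalComplex.single _ (ComplexShape.up ℤ) 0).obj N) :=
    (DerivedCategory.singleFunctorIsoCompQ _ 0).app N
  let eJ : (stk x).mapDerivedCategory.obj K ≅ DerivedCategory.Q.obj J :=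
    (stk x).mapDerivedCategory.mapIso e ≪≫ (stk x).mapDerivedCategoryFactors.app I
  obtain ⟨φ0, hφ0⟩ : ∃ φ0 : (HomologicalComplex.single _ (ComplexShape.up ℤ) 0).obj N ⟶ J,
      DerivedCategory.Q.map φ0 = eS.inv ≫ ψ ≫ eJ.hom := by
    obtain ⟨φh, hφh⟩ := (CochainComplex.IsKInjective.Qh_map_bijective _ J).2
      ((DerivedCategory.quotientCompQhIso _).hom.app _ ≫ (eS.inv ≫ ψ ≫ eJ.hom) ≫
        (DerivedCategory.quotientCompQhIso _).inv.app J)
    obtain ⟨φ0, rfl⟩ := (HomotopyCategory.quotient _ (ComplexShape.up ℤ)).map_surjective φh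
    refine ⟨φ0, ?_⟩
    have hn := (DerivedCategory.quotientCompQhIso (ModuleCat.{u} (X.presheaf.stalk x))).hom.naturality φ0
    simp only [Functor.comp_map] at hn
    rw [hφh] at hn
    simp only [Category.assoc] at hn
    erw [Iso.inv_hom_id_app] at hn
    rw [← cancel_epi ((DerivedCategory.quotientCompQhIso (ModuleCat.{u} (X.presheaf.stalk x))).hom.app _),
      ← hn]
    exact congrArg _ (by simp)
  let v : N ⟶ (stk x).obj (I.X 0) :=
    (HomologicalComplex.singleObjXSelf (ComplexShape.up ℤ) 0 N).inv ≫ φ0.f 0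
  obtain ⟨w, hw⟩ := exists_lift (I.X 0) hx v
  have hv : ∀ j, v ≫ (stk x).map (I.d 0 j) = 0 := fun j => by
    show (_ ≫ φ0.f 0) ≫ J.d 0 j = 0
    rw [Category.assoc, φ0.comm 0 j, HomologicalComplex.single_obj_d, zero_comp, comp_zero]
  have hwd : ∀ j, (ComplexShape.up ℤ).Rel 0 j → w ≫ I.d 0 j = 0 := fun j _ =>
    eq_zero_of_stk (I.X j) hx N _ (by
      rw [Functor.map_comp, hw, Category.assoc, hv]
      exact comp_zero)
  let φ : (HomologicalComplex.single X.Modules (ComplexShape.up ℤ) 0).obj ((skyF x).obj N) ⟶ I :=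
    HomologicalComplex.mkHomFromSingle w hwd
  have hQ : DerivedCategory.Q.map φ = 0 := by
    let eX : DCoh.inD X (pointMod x) ≅
        DerivedCategory.Q.obj ((HomologicalComplex.single X.Modules (ComplexShape.up ℤ) 0).obj ((skyF x).obj N)) :=
      (DerivedCategory.singleFunctor X.Modules 0).mapIso (pointIso x) ≪≫
        (DerivedCategory.singleFunctorIsoCompQ _ 0).app _
    rw [← cancel_epi eX.hom, ← cancel_mono e.inv, comp_zero, zero_comp, Category.assoc]
    exact h _
  have hstk : DerivedCategory.Q.map (((stk x).mapHomologicalComplex (ComplexShape.up ℤ)).map φ) = 0 := by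
    have hn := (stk x).mapDerivedCategoryFactors.hom.naturality φ
    simp only [Functor.comp_map, hQ, Functor.map_zero, zero_comp] at hn
    rw [← cancel_epi ((stk x).mapDerivedCategoryFactors.hom.app _), ← hn, comp_zero]
  let eN : (HomologicalComplex.single _ (ComplexShape.up ℤ) 0).obj N ≅
      ((stk x).mapHomologicalComplex (ComplexShape.up ℤ)).obj
        ((HomologicalComplex.single X.Modules (ComplexShape.up ℤ) 0).obj ((skyF x).obj N)) :=
    (HomologicalComplex.single _ (ComplexShape.up ℤ) 0).mapIso ((skyStkNatIso x).app N).symm ≪≫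
      ((HomologicalComplex.singleMapHomologicalComplex (stk x) (ComplexShape.up ℤ) 0).app _).symm
  have hφ : φ0 = eN.hom ≫ ((stk x).mapHomologicalComplex (ComplexShape.up ℤ)).map φ := by
    apply HomologicalComplex.from_single_hom_ext
    simp only [eN, φ, Iso.trans_hom, Functor.mapIso_hom, Iso.app_inv, Iso.symm_hom,
      HomologicalComplex.comp_f, Functor.mapHomologicalComplex_map_f,
      HomologicalComplex.mkHomFromSingle_f, HomologicalComplex.singleMapHomologicalComplex_inv_app_self,
      Functor.map_comp, hw]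
    simp [v, HomologicalComplex.single_map_f_self]
    erw [← Functor.map_comp_assoc, Iso.inv_hom_id, CategoryTheory.Functor.map_id, Category.id_comp,
      Iso.inv_hom_id_app_assoc]
  have : DerivedCategory.Q.map φ0 = 0 := by rw [hφ, Functor.map_comp, hstk, comp_zero]
  rw [← cancel_epi eS.inv, ← cancel_mono eJ.hom, Category.assoc, ← hφ0, this, comp_zero, zero_comp]

end Groth.DEquivH6.Point
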