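import Groth.Agent.DerivedCoh.KFlat.StalkCriterion
import Groth.Agent.DerivedCoh.ExtZero.Basic
import Groth.Agent.Calg1.DualSchLocal
import Groth.Prelude.Def_DCoh2
import Groth.Prelude.Def_Coh
import Groth.Prelude.Def_CohB1

/-!
# The point sheaf as a skyscraper; the derived stalk adjunction
-/

set_option autoImplicit false

universe u

open CategoryTheory CategoryTheory.Limits AlgebraicGeometry TopologicalSpace Opposite
open Groth.DerivedCoh.KFlat (stk skyF skyAdj exact_map_skyF)
open Groth.QCohMod (SkyObj sky toSky)

namespace Groth.DEquivH6.Point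

attribute [local instance] HasDerivedCategory.standard

variable {X : Scheme.{u}}

/-- the residue field as a module over the local ring -/
noncomputable abbrev res (x : X) : ModuleCat.{u} (X.presheaf.stalk x) :=
  ModuleCat.of (X.presheaf.stalk x) (IsLocalRing.ResidueField (X.presheaf.stalk x))

/-- the point sheaf -/
noncomputable abbrev pointMod (x : X) : X.Modules :=
  (Coh.push (X.fromSpecResidueField x)).obj (Coh.structureModule _)

lemma preimage_eq_top (x : X) {U : X.Opens} (hx : x ∈ U) : X.fromSpecResidueField x ⁻¹ᵁ U = ⊤ :=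
  top_le_iff.1 fun s _ => by
    show X.fromSpecResidueField x s ∈ U
    rwa [Scheme.fromSpecResidueField_apply]

lemma preimage_eq_bot (x : X) {U : X.Opens} (hx : x ∉ U) : X.fromSpecResidueField x ⁻¹ᵁ U = ⊥ :=
  le_bot_iff.1 fun s hs => by
    have : X.fromSpecResidueField x s ∈ U := hs
    rw [Scheme.fromSpecResidueField_apply] at this
    exact absurd this hx

/-- the value at the point -/
noncomputable def val (x : X) (U : X.Opens) (hx : x ∈ U) :
    Γ(Spec (X.residueField x), X.fromSpecResidueField x ⁻¹ᵁ U) →+* X.residueField x :=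
  ((Spec (X.residueField x)).presheaf.map (homOfLE (preimage_eq_top x hx).ge).op ≫
    (Scheme.ΓSpecIso (X.residueField x)).hom).hom

lemma val_bijective (x : X) (U : X.Opens) (hx : x ∈ U) : Function.Bijective (val x U hx) := by
  have : IsIso ((Spec (X.residueField x)).presheaf.map (homOfLE (preimage_eq_top x hx).ge).op) := by
    rw [show (homOfLE (preimage_eq_top x hx).ge).op = (eqToIso (preimage_eq_top x hx).symm).hom.op from rfl]
    infer_instance
  exact ConcreteCategory.bijective_of_isIso _

lemma val_app (x : X) (U : X.Opens) (hx : x ∈ U) (r : Γ(X, U)) :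
    val x U hx ((X.fromSpecResidueField x).app U r) =
      IsLocalRing.residue (X.presheaf.stalk x) (X.presheaf.germ U x hx r) := by
  have hle : (⊤ : (Spec (X.presheaf.stalk x)).Opens) ≤ X.fromSpecStalk x ⁻¹ᵁ U := by
    rintro s -
    have : X.fromSpecStalk x s ∈ Set.range (X.fromSpecStalk x) := ⟨s, rfl⟩
    rw [Scheme.range_fromSpecStalk] at this
    exact (show X.fromSpecStalk x s ⤳ x from this).mem_open U.2 hx
  have h1 : (X.fromSpecStalk x).appLE U ⊤ hle =
      X.presheaf.germ U x hx ≫ (Scheme.ΓSpecIso (X.presheaf.stalk x)).inv := by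
    rw [Scheme.Hom.appLE, Scheme.fromSpecStalk_app hx]
    simp only [Category.assoc, ← Functor.map_comp]
    rw [show ((homOfLE le_top).op ≫ (homOfLE hle).op :
      op (⊤ : (Spec (X.presheaf.stalk x)).Opens) ⟶ op ⊤) = 𝟙 _ from Subsingleton.elim _ _]
    simp
  have : (X.fromSpecResidueField x).app U ≫
      (Spec (X.residueField x)).presheaf.map (homOfLE (preimage_eq_top x hx).ge).op ≫
        (Scheme.ΓSpecIso (X.residueField x)).hom = X.evaluation U x hx := by
    rw [← Category.assoc]
    show (X.fromSpecResidueField x).appLE U ⊤ (preimage_eq_top x hx).ge ≫ _ = _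
    have h2 : (X.fromSpecResidueField x).appLE U ⊤ (preimage_eq_top x hx).ge =
        (X.fromSpecStalk x).appLE U ⊤ hle ≫ (Spec.map (X.residue x)).appTop := by
      have e : (Spec.map (X.residue x)).appTop = (Spec.map (X.residue x)).appLE ⊤ ⊤ le_top :=
        Scheme.Hom.app_eq_appLE _
      rw [e, Scheme.Hom.appLE_comp_appLE]
      rfl
    rw [h2, h1, Category.assoc, Category.assoc, Scheme.ΓSpecIso_naturality, Iso.inv_hom_id_assoc]
    exact X.germ_residue (U := U) x hx
  exact ConcreteCategory.congr_hom this r

/-- the map from the point sheaf to the skyscraper -/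
noncomputable def toSkyscraper (x : X) : pointMod x ⟶ (skyF x).obj (res x) :=
  toSky (pointMod x) (fun U hx => (val x U hx).toAddMonoidHom)
    (fun U V h hx m => by
      have e : (Spec (X.residueField x)).presheaf.map
            ((TopologicalSpace.Opens.map (X.fromSpecResidueField x).base).op.map (homOfLE h).op) ≫
          (Spec (X.residueField x)).presheaf.map (homOfLE (preimage_eq_top x hx).ge).op =
          (Spec (X.residueField x)).presheaf.map (homOfLE (preimage_eq_top x (h hx)).ge).op := by
        rw [← Functor.map_comp]; rfl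
      exact congrArg (Scheme.ΓSpecIso (X.residueField x)).hom (ConcreteCategory.congr_hom e m))
    (fun U hx r m => by
      show val x U hx ((X.fromSpecResidueField x).app U r *
        (show Γ(Spec (X.residueField x), X.fromSpecResidueField x ⁻¹ᵁ U) from m)) = _
      rw [map_mul, val_app]
      rfl)

lemma isIso_toSkyscraper (x : X) : IsIso (toSkyscraper x) := by
  refine Scheme.Modules.Hom.isIso_iff_isIso_app.2 fun U => ?_
  refine (ConcreteCategory.isIso_iff_bijective _).2 ?_
  by_cases hx : x ∈ U
  · exact ⟨fun a b h => (val_bijective x U hx).1 (congrFun h ⟨hx⟩),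
      fun b => ⟨((val_bijective x U hx).2 (b ⟨hx⟩)).choose, funext fun h =>
        ((val_bijective x U hx).2 (b ⟨hx⟩)).choose_spec⟩⟩
  · have hs : Subsingleton Γ(Spec (X.residueField x), X.fromSpecResidueField x ⁻¹ᵁ U) := by
      rw [preimage_eq_bot x hx]
      exact CommRingCat.subsingleton_of_isTerminal (Spec (X.residueField x)).sheaf.isTerminalOfEmpty
    exact ⟨fun a b _ => hs.elim a b, fun b => ⟨(0 : Γ(Spec (X.residueField x),
      X.fromSpecResidueField x ⁻¹ᵁ U)), funext fun h => absurd h.down hx⟩⟩

/-- the point sheaf is the skyscraper with value the residue field -/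
noncomputable def pointIso (x : X) : pointMod x ≅ (skyF x).obj (res x) :=
  @asIso _ _ _ _ (toSkyscraper x) (isIso_toSkyscraper x)

lemma preservesLimits_skyF (x : X) :
    PreservesFiniteLimits (skyF x) ∧ PreservesFiniteColimits (skyF x) :=
  ((skyF x).exact_tfae.out 1 3).1 (exact_map_skyF x)

instance preservesFiniteLimits_skyF (x : X) : PreservesFiniteLimits (skyF x) :=
  (preservesLimits_skyF x).1

instance preservesFiniteColimits_skyF (x : X) : PreservesFiniteColimits (skyF x) :=
  (preservesLimits_skyF x).2

/-- the derived stalk adjunction -/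
noncomputable def stkDAdj (x : X) : (stk x).mapDerivedCategory ⊣ (skyF x).mapDerivedCategory :=
  Groth.DerivedCoh.ExtZero.derAdj (skyAdj x)

/-- maps to shifts of the point sheaf -/
noncomputable def homPointEquiv (x : X) (K : DCoh.D X) (n : ℤ) :
    (K ⟶ (shiftFunctor (DCoh.D X) n).obj (DCoh.inD X (pointMod x))) ≃
      ((stk x).mapDerivedCategory.obj K ⟶
        (shiftFunctor _ n).obj ((DerivedCategory.singleFunctor _ 0).obj (res x))) :=
  (Iso.homToEquiv ((shiftFunctor (DCoh.D X) n).mapIso
    ((DerivedCategory.singleFunctor X.Modules 0).mapIso (pointIso x) ≪≫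
      ((skyF x).mapDerivedCategorySingleFunctor 0).symm.app (res x)) ≪≫
    (((skyF x).mapDerivedCategory.commShiftIso n).app _).symm)).trans
    ((stkDAdj x).homEquiv _ _).symm

lemma homPointEquiv_eq_zero_iff (x : X) (K : DCoh.D X) (n : ℤ) :
    (∀ φ : K ⟶ (shiftFunctor (DCoh.D X) n).obj (DCoh.inD X (pointMod x)), φ = 0) ↔
      ∀ ψ : (stk x).mapDerivedCategory.obj K ⟶
        (shiftFunctor _ n).obj ((DerivedCategory.singleFunctor _ 0).obj (res x)), ψ = 0 := by
  have hs : ∀ {α β : Type (u + 1)} (e : α ≃ β), Subsingleton α ↔ Subsingleton β := fun e =>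
    e.subsingleton_congr
  rw [← subsingleton_iff_forall_eq, ← subsingleton_iff_forall_eq]
  exact hs (homPointEquiv x K n)

lemma notMem_support_iff (x : X) (K : DCoh.D X) (i : ℤ) :
    x ∉ CohB1.support (DCoh.HD K i) ↔
      IsZero ((DerivedCategory.homologyFunctor _ i).obj ((stk x).mapDerivedCategory.obj K)) := by
  obtain ⟨e⟩ := Groth.Calg1.DualSch.nonempty_homology_mapDerivedCategory (stk x) K i
  rw [e.isZero_iff, ModuleCat.isZero_iff_subsingleton]
  exact not_not

end Groth.DEquivH6.Point
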