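import Groth.Agent.Misc1.CellularTower
import Groth.Agent.Misc1.CompactEnvelope
import Groth.Agent.DerivedCoh.BrownCompact

/-!
# The compact objects of a compactly generated category have a small set of representatives
-/

set_option autoImplicit false

universe v u

open CategoryTheory CategoryTheory.Limits CategoryTheory.Pretriangulated ZeroObject

namespace Groth.DEquivH6.SmallCompact

variable {D : Type u} [Category.{v} D] [Preadditive D] [HasZeroObject D] [HasShift D ℤ]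
  [∀ n : ℤ, (shiftFunctor D n).Additive] [Pretriangulated D]

section closure

variable {ι : Type v} (E : ι → D)

/-- Objects built in at most `n` steps from `E` by shifts and chosen cones, indexed by small types. -/
noncomputable def built : ℕ → Σ κ : Type v, κ → D
  | 0 => ⟨Option ι, fun o => o.elim (0 : D) E⟩
  | n + 1 =>
    ⟨(built n).1 ⊕ ((built n).1 × ULift.{v} ℤ) ⊕
        Σ p : (built n).1 × (built n).1, ((built n).2 p.1 ⟶ (built n).2 p.2),
      Sum.elim (built n).2 (Sum.elim (fun p => ((built n).2 p.1)⟦p.2.down⟧)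
        (fun p => (distinguished_cocone_triangle p.2).choose))⟩

/-- retracts of built objects -/
def retractBuilt : ObjectProperty D := fun X => ∃ n k, Nonempty (Retract X ((built E n).2 k))

variable {E}

lemma retract_succ {X : D} {n : ℕ} {k : (built E n).1} (r : Retract X ((built E n).2 k)) :
    ∃ k', Nonempty (Retract X ((built E (n + 1)).2 k')) := ⟨Sum.inl k, ⟨r⟩⟩

lemma retract_mono {X : D} {n m : ℕ} (h : n ≤ m) (hX : ∃ k, Nonempty (Retract X ((built E n).2 k))) :
    ∃ k, Nonempty (Retract X ((built E m).2 k)) := by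
  induction h with
  | refl => exact hX
  | step _ ih => obtain ⟨k, ⟨r⟩⟩ := ih; exact retract_succ r

/-- the cone of a map between retracts is a retract of a cone -/
lemma nonempty_retract_cone {X Y C A B C' : D} {f : X ⟶ Y} {g : Y ⟶ C} {h : C ⟶ X⟦(1 : ℤ)⟧}
    (hT : Triangle.mk f g h ∈ distinguishedTriangles) (rX : Retract X A) (rY : Retract Y B)
    {g' : B ⟶ C'} {h' : C' ⟶ A⟦(1 : ℤ)⟧}
    (hT' : Triangle.mk (rX.r ≫ f ≫ rY.i) g' h' ∈ distinguishedTriangles) :
    Nonempty (Retract C C') := by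
  obtain ⟨u, hu₁, hu₂⟩ : ∃ u : C ⟶ C', g ≫ u = rY.i ≫ g' ∧ h ≫ rX.i⟦(1 : ℤ)⟧' = u ≫ h' :=
    complete_distinguished_triangle_morphism _ _ hT hT' rX.i rY.i (by
    show f ≫ rY.i = rX.i ≫ rX.r ≫ f ≫ rY.i
    rw [rX.retract_assoc])
  obtain ⟨w, hw₁, hw₂⟩ : ∃ w : C' ⟶ C, g' ≫ w = rY.r ≫ g ∧ h' ≫ rX.r⟦(1 : ℤ)⟧' = w ≫ h :=
    complete_distinguished_triangle_morphism _ _ hT' hT rX.r rY.r (by
    show (rX.r ≫ f ≫ rY.i) ≫ rY.r = rX.r ≫ f
    simp)
  let φ : Triangle.mk f g h ⟶ Triangle.mk f g h :=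
    { hom₁ := 𝟙 _
      hom₂ := 𝟙 _
      hom₃ := u ≫ w
      comm₁ := by simp
      comm₂ := by
        show g ≫ u ≫ w = 𝟙 _ ≫ g
        rw [reassoc_of% hu₁, hw₁, rY.retract_assoc, Category.id_comp]
      comm₃ := by
        show h ≫ (𝟙 X)⟦(1 : ℤ)⟧' = (u ≫ w) ≫ h
        rw [Category.assoc, ← hw₂, ← reassoc_of% hu₂, ← Functor.map_comp, rX.retract] }
  have h₃ : IsIso φ.hom₃ := isIso₃_of_isIso₁₂ φ hT hT (inferInstanceAs (IsIso (𝟙 X)))
    (inferInstanceAs (IsIso (𝟙 Y)))
  have h₄ : IsIso (u ≫ w) := h₃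
  exact ⟨{ i := u, r := w ≫ inv (u ≫ w), retract := by rw [← Category.assoc]; exact IsIso.hom_inv_id _ }⟩

lemma retractBuilt_cone {X Y C : D} {f : X ⟶ Y} {g : Y ⟶ C} {h : C ⟶ X⟦(1 : ℤ)⟧}
    (hT : Triangle.mk f g h ∈ distinguishedTriangles) (hX : retractBuilt E X) (hY : retractBuilt E Y) :
    retractBuilt E C := by
  obtain ⟨n, kn⟩ := hX
  obtain ⟨m, km⟩ := hY
  obtain ⟨k, ⟨rX⟩⟩ := retract_mono (le_max_left n m) kn
  obtain ⟨l, ⟨rY⟩⟩ := retract_mono (le_max_right n m) km
  let p : Σ p : (built E (max n m)).1 × (built E (max n m)).1,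
      ((built E (max n m)).2 p.1 ⟶ (built E (max n m)).2 p.2) := ⟨(k, l), rX.r ≫ f ≫ rY.i⟩
  obtain ⟨g', h', hT'⟩ := (distinguished_cocone_triangle p.2).choose_spec
  exact ⟨max n m + 1, Sum.inr (Sum.inr p), nonempty_retract_cone hT rX rY hT'⟩

instance : (retractBuilt E).IsStableUnderRetracts where
  of_retract r := fun ⟨n, k, ⟨r'⟩⟩ => ⟨n, k, ⟨r.trans r'⟩⟩

instance : (retractBuilt E).IsClosedUnderIsomorphisms where
  of_iso e := fun ⟨n, k, ⟨r'⟩⟩ => ⟨n, k, ⟨(Retract.ofIso e.symm).trans r'⟩⟩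

instance : (retractBuilt E).ContainsZero where
  exists_zero := ⟨_, (isZero_zero D), 0, none, ⟨Retract.refl _⟩⟩

instance : (retractBuilt E).IsStableUnderShift ℤ where
  isStableUnderShiftBy a := ObjectProperty.IsStableUnderShiftBy.mk fun X ⟨n, k, ⟨r⟩⟩ =>
    ⟨n + 1, Sum.inr (Sum.inl (k, ⟨a⟩)), ⟨r.map (shiftFunctor D a)⟩⟩

instance : (retractBuilt E).IsTriangulatedClosed₂ := by
  refine ObjectProperty.IsTriangulatedClosed₂.mk' fun T hT h₁ h₃ => ?_
  exact retractBuilt_cone (inv_rot_of_distTriang T hT)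
    ((retractBuilt E).le_shift (-1 : ℤ) _ h₃) h₁

instance : (retractBuilt E).IsTriangulated where

lemma retractBuilt_mem (i : ι) : retractBuilt E (E i) := ⟨0, some i, ⟨Retract.refl _⟩⟩

end closure

variable [IsTriangulated D] [HasCoproducts.{v} D]

/-- The compact objects of a compactly generated category form, up to isomorphism, a small set. -/
theorem exists_representatives (hD : CohDer.IsCompactlyGenerated D) :
    ∃ (κ : Type v) (R : κ → D), (∀ j, CohDer.IsCompactObject (R j)) ∧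
      ∀ C : D, CohDer.IsCompactObject C → ∃ j, Nonempty (C ≅ R j) := by
  classical
  haveI := Groth.DerivedCoh.Brown.hasColimitsOfShape_nat (D := D)
  obtain ⟨ι₀, E₀, hc₀, hg₀⟩ := hD
  let E : Option ι₀ → D := fun o => o.elim (0 : D) E₀
  have hc : ∀ o, CohDer.IsCompactObject (E o) := fun o => match o with
    | none => DerivedCoh.Compact.of_isZero (isZero_zero D)
    | some i => hc₀ i
  have hg : CohDer.Generates E := fun K hK => hg₀ K fun i n f => hK (some i) n f
  let good : Set (Σ (n : ℕ) (k : (built E n).1), ((built E n).2 k ⟶ (built E n).2 k)) :=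
    {x | ∃ (C : D) (_ : CohDer.IsCompactObject C) (r : Retract C ((built E x.1).2 x.2.1)),
      r.r ≫ r.i = x.2.2}
  choose R hR rR hrR using fun x : good => x.2
  refine ⟨good, R, hR, fun X hX => ?_⟩
  obtain ⟨K, f, i, ⟨c, hT⟩, h0, hstep⟩ := Groth.Misc1.CellularTower.exists_tower E hc hg X
  have hi : ∀ n, f n ≫ i (n + 1) = i n := fun n => by
    have h0 : (𝟙 (∐ K) - DerLim.shiftMap K f) ≫ Sigma.desc i = 0 := comp_distTriang_mor_zero₁₂ _ hT
    have h := congrArg (Sigma.ι K n ≫ ·) h0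
    simp only [Preadditive.sub_comp, Category.id_comp, Preadditive.comp_sub, DerLim.shiftMap,
      Sigma.ι_desc_assoc, Category.assoc, Sigma.ι_desc, comp_zero, sub_eq_zero] at h
    exact h.symm
  obtain ⟨N, b, hb⟩ := Groth.Misc1.CellularTower.exists_factor K f hX i c hT hi (𝟙 X)
  obtain ⟨s, B, g, h, hB, -, hgh⟩ := Groth.Misc1.CompactEnvelope.fact_tower hc K f h0 hstep N X hX b
  have hle : Groth.Misc1.CompactEnvelope.env E s ≤ retractBuilt E := by
    haveI : ObjectProperty.Nonempty (fun Y : D => ∃ i ∈ insert (Classical.arbitrary (Option ι₀)) s, Y = E i) :=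
      ObjectProperty.nonempty_of_prop (X := E (Classical.arbitrary _))
        ⟨_, Finset.mem_insert_self _ _, rfl⟩
    unfold Groth.Misc1.CompactEnvelope.env
    rw [ObjectProperty.triangEnvelope_le_iff]
    rintro Y ⟨o, -, rfl⟩
    exact retractBuilt_mem o
  obtain ⟨n, k, ⟨r'⟩⟩ := hle _ hB
  let r : Retract X ((built E n).2 k) :=
    (Retract.mk g (h ≫ i N) (by rw [← Category.assoc, hgh, ← hb])).trans r'
  let x : good := ⟨⟨n, k, r.r ≫ r.i⟩, X, hX, r, rfl⟩
  refine ⟨x, ⟨⟨r.i ≫ (rR x).r, (rR x).i ≫ r.r, ?_, ?_⟩⟩⟩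
  · have e : (rR x).r ≫ (rR x).i = r.r ≫ r.i := hrR x
    rw [Category.assoc, reassoc_of% e]
    exact (r.retract_assoc _).trans r.retract
  · have e : (rR x).r ≫ (rR x).i = r.r ≫ r.i := hrR x
    rw [Category.assoc, ← reassoc_of% e]
    exact ((rR x).retract_assoc _).trans (rR x).retract

end Groth.DEquivH6.SmallCompact
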