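import Groth.Agent.DEquivH6.PointSheaf
import Groth.Agent.QCohMod.SupportPullback

/-!
# Top cohomology and maps to the residue field
-/

set_option autoImplicit false

universe u

open CategoryTheory CategoryTheory.Limits CategoryTheory.Pretriangulated AlgebraicGeometry
open DerivedCategory.TStructure
open scoped TensorProduct

namespace Groth.DEquivH6.Point

attribute [local instance] HasDerivedCategory.standard

variable {A : Type u} [CommRing A] [IsLocalRing A]

/-- the residue field in degree zero -/
noncomputable abbrev kap (A : Type u) [CommRing A] [IsLocalRing A] : DerivedCategory (ModuleCat.{u} A) :=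
  (DerivedCategory.singleFunctor (ModuleCat.{u} A) 0).obj (ModuleCat.of A (IsLocalRing.ResidueField A))

lemma hom_eq_zero_of_isLE (L : DerivedCategory (ModuleCat.{u} A)) (b i : ℤ) [L.IsLE b] (h : b < i)
    (ψ : L ⟶ (kap A)⟦-i⟧) : ψ = 0 := by
  have : t.IsGE ((kap A)⟦-i⟧) i := t.isGE_shift (kap A) 0 (-i) i (by omega)
  exact t.zero ψ b i h

/-- a nonzero finite module over a local ring maps nonzero to the residue field -/
lemma exists_toResidueField (Y : Type u) [AddCommGroup Y] [Module A Y] [Module.Finite A Y] [Nontrivial Y] :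
    ∃ f : Y →ₗ[A] IsLocalRing.ResidueField A, f ≠ 0 := by
  obtain ⟨v, hv⟩ : ∃ v : TensorProduct A (IsLocalRing.ResidueField A) Y, v ≠ 0 := by
    by_contra h
    push Not at h
    exact not_subsingleton Y (IsLocalRing.subsingleton_tensorProduct.1 ⟨fun a b => (h a).trans (h b).symm⟩)
  let : Module.Free (IsLocalRing.ResidueField A) (TensorProduct A (IsLocalRing.ResidueField A) Y) :=
    Module.Free.of_divisionRing _ _
  obtain ⟨g, hg⟩ : ∃ g : Module.Dual (IsLocalRing.ResidueField A)
      (TensorProduct A (IsLocalRing.ResidueField A) Y), g v ≠ 0 := by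
    by_contra h
    push Not at h
    exact hv ((Module.forall_dual_apply_eq_zero_iff (IsLocalRing.ResidueField A) v).1 h)
  refine ⟨(g.restrictScalars A) ∘ₗ TensorProduct.mk A (IsLocalRing.ResidueField A) Y 1, fun h0 => hg ?_⟩
  clear hg hv
  induction v with
  | zero => exact map_zero g
  | tmul c y =>
    have := LinearMap.congr_fun h0 y
    simp only [LinearMap.comp_apply, LinearMap.zero_apply] at this
    rw [show (c ⊗ₜ[A] y : TensorProduct A (IsLocalRing.ResidueField A) Y) = c • ((1 : IsLocalRing.ResidueField A) ⊗ₜ[A] y) by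
      rw [TensorProduct.smul_tmul', smul_eq_mul, mul_one], map_smul]
    exact (congrArg (c • ·) this).trans (smul_zero c)
  | add a b ha hb => rw [map_add, ha, hb, add_zero]

lemma exists_hom_ne_zero (L : DerivedCategory (ModuleCat.{u} A)) (j : ℤ) [L.IsLE j]
    [Module.Finite A ↥((DerivedCategory.homologyFunctor (ModuleCat.{u} A) j).obj L)]
    (hj : ¬ IsZero ((DerivedCategory.homologyFunctor (ModuleCat.{u} A) j).obj L)) :
    ∃ ψ : L ⟶ (kap A)⟦-j⟧, ψ ≠ 0 := by
  let T := (t.triangleLTGE j).obj L
  have hT : T ∈ distTriang _ := t.triangleLTGE_distinguished j L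
  have h1 : ((t.truncLT j).obj L).IsLE (j - 1) := inferInstance
  have h2 : ((t.truncGE j).obj L).IsGE j := inferInstance
  have h3 : ((t.truncGE j).obj L).IsLE j := inferInstance
  have hepi : Epi ((DerivedCategory.homologyFunctor _ j).map ((t.truncGEπ j).app L)) :=
    (DerivedCategory.HomologySequence.epi_homologyMap_mor₂_iff T hT j (j + 1) rfl).2
      ((DerivedCategory.isZero_of_isLE ((t.truncLT j).obj L) (j - 1) (j + 1) (by omega)).eq_of_tgt _ _)
  have hmono : Mono ((DerivedCategory.homologyFunctor _ j).map ((t.truncGEπ j).app L)) :=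
    (DerivedCategory.HomologySequence.mono_homologyMap_mor₂_iff T hT j).2
      ((DerivedCategory.isZero_of_isLE ((t.truncLT j).obj L) (j - 1) j (by omega)).eq_of_src _ _)
  obtain ⟨Y, ⟨eY⟩⟩ := DerivedCategory.exists_iso_singleFunctor_obj_of_isGE_of_isLE ((t.truncGE j).obj L) j
  let p : L ⟶ (DerivedCategory.singleFunctor _ j).obj Y := (t.truncGEπ j).app L ≫ eY.hom
  have hp : IsIso ((DerivedCategory.homologyFunctor _ j).map p) := by
    have := isIso_of_mono_of_epi ((DerivedCategory.homologyFunctor _ j).map ((t.truncGEπ j).app L))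
    simp only [p, Functor.map_comp]
    infer_instance
  let eH : (DerivedCategory.homologyFunctor _ j).obj L ≅ Y :=
    asIso ((DerivedCategory.homologyFunctor _ j).map p) ≪≫
      (DerivedCategory.singleFunctorCompHomologyFunctorIso _ j).app Y
  have : Module.Finite A Y := Module.Finite.equiv eH.toLinearEquiv
  have : Nontrivial Y := by
    rw [← not_subsingleton_iff_nontrivial]
    intro hs
    exact hj ((ModuleCat.isZero_of_subsingleton Y).of_iso eH)
  obtain ⟨f, hf⟩ := exists_toResidueField (A := A) Y
  let σ := ((DerivedCategory.singleFunctors (ModuleCat.{u} A)).shiftIso (-j) j 0 (by omega)).app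
    (ModuleCat.of A (IsLocalRing.ResidueField A))
  refine ⟨p ≫ (DerivedCategory.singleFunctor _ j).map (ModuleCat.ofHom f) ≫ σ.inv, fun h0 => hf ?_⟩
  have h1 : p ≫ (DerivedCategory.singleFunctor _ j).map (ModuleCat.ofHom f) = 0 := by
    rwa [← cancel_mono σ.inv, zero_comp, Category.assoc]
  have h2 := congrArg (DerivedCategory.homologyFunctor _ j).map h1
  rw [Functor.map_comp, Functor.map_zero] at h2
  have h2 := (cancel_epi ((DerivedCategory.homologyFunctor _ j).map p)).1 (h2.trans comp_zero.symm)
  have h3 := (DerivedCategory.singleFunctorCompHomologyFunctorIso (ModuleCat.{u} A) j).hom.naturality (ModuleCat.ofHom f)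
  simp only [Functor.comp_map, Functor.id_map] at h3
  have h4 : ModuleCat.ofHom f = 0 := by
    rw [← cancel_epi ((DerivedCategory.singleFunctorCompHomologyFunctorIso (ModuleCat.{u} A) j).hom.app Y), ← h3, h2]
    simp
  exact ModuleCat.hom_ext_iff.1 h4

end Groth.DEquivH6.Point
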